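import Mathlib

/-!
# A scheme whose global functions have only trivial idempotents is connected
-/

set_option autoImplicit false

open CategoryTheory Limits AlgebraicGeometry TopologicalSpace Opposite

universe u

namespace Groth.Agent.H3.AntiAff

/-- gluing `1` on `U₁` and `0` on `U₂` for two disjoint opens covering `X` -/
theorem exists_idempotent_of_disjoint_cover (X : Scheme.{u}) (U₁ U₂ : X.Opens)
    (hdisj : U₁ ⊓ U₂ = ⊥) (hcov : U₁ ⊔ U₂ = ⊤) :
    ∃ e : Γ(X, ⊤), IsIdempotentElem e ∧
      X.presheaf.map (homOfLE (le_top : U₁ ≤ ⊤)).op e = 1 ∧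
      X.presheaf.map (homOfLE (le_top : U₂ ≤ ⊤)).op e = 0 := by
  let U : Bool → X.Opens := fun b => cond b U₁ U₂
  let sf : ∀ b : Bool, Γ(X, U b) := fun b => match b with
    | true => (1 : Γ(X, U₁))
    | false => (0 : Γ(X, U₂))
  have hsub : Subsingleton Γ(X, U₁ ⊓ U₂) := by
    rw [hdisj]; infer_instance
  have hsub' : Subsingleton Γ(X, U₂ ⊓ U₁) := by
    rw [inf_comm, hdisj]; infer_instance
  have hcompat : TopCat.Presheaf.IsCompatible X.presheaf U sf := by
    intro i j
    cases i <;> cases j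
    · change X.presheaf.map _ (0 : Γ(X, U₂)) = X.presheaf.map _ (0 : Γ(X, U₂))
      rw [map_zero, map_zero]
    · exact Subsingleton.elim (α := Γ(X, U₂ ⊓ U₁)) _ _
    · exact Subsingleton.elim (α := Γ(X, U₁ ⊓ U₂)) _ _
    · change X.presheaf.map _ (1 : Γ(X, U₁)) = X.presheaf.map _ (1 : Γ(X, U₁))
      rw [map_one, map_one]
  have hcover : (⊤ : X.Opens) ≤ iSup U := by
    rw [← hcov]
    refine sup_le ?_ ?_
    · exact le_iSup U true
    · exact le_iSup U false
  obtain ⟨e, he, huniq⟩ := X.sheaf.existsUnique_gluing' U ⊤ (fun b => homOfLE le_top) hcover sf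
    hcompat
  refine ⟨e, ?_, he true, he false⟩
  have h2 : e * e = e := by
    apply huniq
    intro b
    rw [map_mul, he b]
    cases b
    · exact mul_zero (0 : Γ(X, U₂))
    · exact mul_one (1 : Γ(X, U₁))
  exact h2

lemma opens_eq_bot_of_one_eq_zero (X : Scheme.{u}) (V : X.Opens) (h : (1 : Γ(X, V)) = 0) :
    V = ⊥ := by
  have h1 : X.basicOpen (1 : Γ(X, V)) = V := X.basicOpen_of_isUnit isUnit_one
  rw [h, Scheme.basicOpen_zero] at h1
  exact h1.symm

/-- a nonempty scheme whose global functions have only trivial idempotents is connected -/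
theorem connectedSpace_of_idempotent (X : Scheme.{u}) [Nonempty X]
    (h : ∀ e : Γ(X, ⊤), IsIdempotentElem e → e = 0 ∨ e = 1) : ConnectedSpace X := by
  have : PreconnectedSpace X := by
    rw [preconnectedSpace_iff_clopen]
    intro s hs
    let U₁ : X.Opens := ⟨s, hs.isOpen⟩
    let U₂ : X.Opens := ⟨sᶜ, hs.compl.isOpen⟩
    have hdisj : U₁ ⊓ U₂ = ⊥ := by
      ext x
      simp [U₁, U₂]
    have hcov : U₁ ⊔ U₂ = ⊤ := by
      ext x
      simp [U₁, U₂, em]
    obtain ⟨e, he, h1, h2⟩ := exists_idempotent_of_disjoint_cover X U₁ U₂ hdisj hcov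
    rcases h e he with h0 | h0
    · left
      rw [h0, map_zero] at h1
      have := opens_eq_bot_of_one_eq_zero X U₁ h1.symm
      exact congrArg (fun W : X.Opens => (W : Set X)) this
    · right
      rw [h0, map_one] at h2
      have := opens_eq_bot_of_one_eq_zero X U₂ h2
      have h3 : sᶜ = ∅ := congrArg (fun W : X.Opens => (W : Set X)) this
      exact Set.compl_empty_iff.1 h3
  exact ⟨inferInstance⟩

end Groth.Agent.H3.AntiAff
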