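import Mathlib

/-!
# Global sections of products with an affine flat factor (flat base change for `Γ`)
-/

set_option autoImplicit false

open CategoryTheory Limits AlgebraicGeometry MonoidalCategory CartesianMonoidalCategory
open TensorProduct

universe u

namespace Groth.Agent.H3.AntiAff

lemma appLE_top_top {X Y : Scheme.{u}} (f : X ⟶ Y) (e : (⊤ : X.Opens) ≤ f ⁻¹ᵁ ⊤) :
    f.appLE ⊤ ⊤ e = f.appTop := f.appLE_eq_app

/-- Flat base change for global sections (Mathlib), for the whole scheme. -/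
theorem isPushout_appTop {X Y T₀ T₁ : Scheme.{u}} {f : T₁ ⟶ T₀} {g : Y ⟶ X} {iX : X ⟶ T₀}
    {iY : Y ⟶ T₁} (H : IsPullback g iY iX f) [Flat f] [IsAffine T₀] [IsAffine T₁]
    [CompactSpace X] [QuasiSeparatedSpace X] :
    IsPushout iX.appTop f.appTop g.appTop iY.appTop := by
  have h1 : (⊤ : T₁.Opens) ≤ f ⁻¹ᵁ ⊤ := le_rfl
  have h2 : (⊤ : X.Opens) ≤ iX ⁻¹ᵁ ⊤ := le_rfl
  have h3 : (⊤ : Y.Opens) = g ⁻¹ᵁ ⊤ ⊓ iY ⁻¹ᵁ ⊤ := by simp
  have := isIso_pushoutSection_of_isQuasiSeparated_of_flat_right H h1 h2 h3 (isAffineOpen_top T₀)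
    (isAffineOpen_top T₁) isCompact_univ isQuasiSeparated_univ
  have := (isIso_pushoutSection_iff H h1 h2 h3).1 this
  simpa only [appLE_top_top] using this

variable {S : Scheme.{u}}

lemma isPullback_left (X T : Over S) :
    IsPullback (fst X T).left (snd X T).left X.hom T.hom := by
  simp only [Over.fst_left, Over.snd_left]
  exact IsPullback.of_hasPullback _ _

/-- the pushout square of global sections of a product -/
theorem isPushout_prod [IsAffine S] (X T : Over S) [IsAffine T.left] [Flat T.hom]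
    [CompactSpace X.left] [QuasiSeparatedSpace X.left] :
    IsPushout X.hom.appTop T.hom.appTop (fst X T).left.appTop (snd X T).left.appTop :=
  isPushout_appTop (isPullback_left X T)

/-- if `Γ(X) = Γ(S)` then `Γ(X × T) = Γ(T)` for `T` affine and flat -/
theorem isIso_snd_appTop [IsAffine S] (X T : Over S) [IsAffine T.left] [Flat T.hom]
    [CompactSpace X.left] [QuasiSeparatedSpace X.left] [IsIso X.hom.appTop] :
    IsIso (snd X T).left.appTop :=
  (isPushout_prod X T).isIso_inr_of_isIso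

/-- Flat base change for global sections of a product in tensor product form. -/
theorem exists_tensorEquiv [IsAffine S] (X T : Over S) [IsAffine T.left] [Flat T.hom]
    [CompactSpace X.left] [QuasiSeparatedSpace X.left]
    [Algebra Γ(S, ⊤) Γ(T.left, ⊤)] [Algebra Γ(S, ⊤) Γ(X.left, ⊤)]
    (h₁ : algebraMap Γ(S, ⊤) Γ(T.left, ⊤) = T.hom.appTop.hom)
    (h₂ : algebraMap Γ(S, ⊤) Γ(X.left, ⊤) = X.hom.appTop.hom) :
    ∃ ψ : Γ(T.left, ⊤) ⊗[Γ(S, ⊤)] Γ(X.left, ⊤) ≃+* Γ((X ⊗ T).left, ⊤),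
      ∀ a b, ψ (a ⊗ₜ b) = (snd X T).left.appTop.hom a * (fst X T).left.appTop.hom b := by
  have P1 := (isPushout_prod X T).flip
  have P2 := CommRingCat.isPushout_tensorProduct Γ(S, ⊤) Γ(T.left, ⊤) Γ(X.left, ⊤)
  have e1 : CommRingCat.ofHom (algebraMap Γ(S, ⊤) Γ(T.left, ⊤)) = T.hom.appTop := by
    rw [h₁]; rfl
  have e2 : CommRingCat.ofHom (algebraMap Γ(S, ⊤) Γ(X.left, ⊤)) = X.hom.appTop := by
    rw [h₂]; rfl
  rw [e1, e2] at P2
  let i := P2.isoIsPushout _ _ P1
  refine ⟨i.commRingCatIsoToRingEquiv, fun a b => ?_⟩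
  have hl : ∀ a, i.hom (a ⊗ₜ 1) = (snd X T).left.appTop.hom a := fun a => by
    have := congrArg (fun φ => φ.hom a) (P2.inl_isoIsPushout_hom _ _ P1)
    exact this
  have hr : ∀ b, i.hom (1 ⊗ₜ b) = (fst X T).left.appTop.hom b := fun b => by
    have := congrArg (fun φ => φ.hom b) (P2.inr_isoIsPushout_hom _ _ P1)
    exact this
  change i.hom (a ⊗ₜ b) = _
  have : a ⊗ₜ[Γ(S, ⊤)] b = (a ⊗ₜ 1) * (1 ⊗ₜ b) := by
    rw [Algebra.TensorProduct.tmul_mul_tmul, mul_one, one_mul]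
  rw [this, map_mul, hl, hr]

end Groth.Agent.H3.AntiAff
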