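import Mathlib
import Groth.Prelude.Def_Red
import Groth.Agent.Lib.Helper3.AntiAff.Gamma

/-!
# Anti-affineness and base field extension
-/

set_option autoImplicit false

open CategoryTheory Limits AlgebraicGeometry MonoidalCategory CartesianMonoidalCategory
open TensorProduct

universe u

namespace Groth.Agent.H3.AntiAff

lemma bijective_iff_isIso {k : Type u} [Field k] {B : CommRingCat.{u}}
    (φ : Γ(Spec (CommRingCat.of k), ⊤) ⟶ B) :
    Function.Bijective ((Scheme.ΓSpecIso (CommRingCat.of k)).inv ≫ φ).hom ↔ IsIso φ := by
  rw [← ConcreteCategory.isIso_iff_bijective]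
  exact isIso_comp_left_iff _ _

lemma isField_gammaSpec (k : Type u) [Field k] : IsField Γ(Spec (CommRingCat.of k), ⊤) :=
  (Scheme.ΓSpecIso (CommRingCat.of k)).commRingCatIsoToRingEquiv.toMulEquiv.isField
    (Field.toIsField k)

/-- descent of bijectivity along a pushout with a faithfully flat leg (field case) -/
theorem isIso_of_isPushout_of_isField {A A' B C : CommRingCat.{u}} {f : A ⟶ B} {g : A ⟶ A'}
    {inl : B ⟶ C} {inr : A' ⟶ C} (po : IsPushout f g inl inr) (hA : IsField A)
    [Nontrivial A'] [IsIso inr] : IsIso f := by
  letI := hA.toField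
  letI : Algebra A A' := g.hom.toAlgebra
  letI : Algebra A B := f.hom.toAlgebra
  have P2 := CommRingCat.isPushout_tensorProduct A A' B
  have e1 : CommRingCat.ofHom (algebraMap A A') = g := rfl
  have e2 : CommRingCat.ofHom (algebraMap A B) = f := rfl
  rw [e1, e2] at P2
  have P1 := po.flip
  let i := P2.isoIsPushout _ _ P1
  have hi : CommRingCat.ofHom (Algebra.TensorProduct.includeLeftRingHom (R := A) (A := A')
      (B := B)) = inr ≫ i.inv := by
    rw [Iso.eq_comp_inv]
    exact P2.inl_isoIsPushout_hom _ _ P1
  have hbij : Function.Bijective (algebraMap A' (A' ⊗[A] B)) := by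
    have : IsIso (CommRingCat.ofHom (Algebra.TensorProduct.includeLeftRingHom (R := A) (A := A')
        (B := B))) := by rw [hi]; infer_instance
    exact (ConcreteCategory.isIso_iff_bijective _).1 this
  have := Module.FaithfullyFlat.bijective_of_tensorProduct (R := A) (S := A') (T := B) hbij
  exact (ConcreteCategory.isIso_iff_bijective f).2 this

theorem isIso_appTop_bc_iff {k K : Type u} [Field k] [Field K] [Algebra k K]
    (G : Over (Spec (CommRingCat.of k))) [CompactSpace G.left] [QuasiSeparatedSpace G.left] :
    IsIso G.hom.appTop ↔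
      IsIso (Red.bc (Spec.map (CommRingCat.ofHom (algebraMap k K))) G).hom.appTop := by
  have sq : IsPullback (pullback.fst G.hom (Spec.map (CommRingCat.ofHom (algebraMap k K))))
      (pullback.snd G.hom (Spec.map (CommRingCat.ofHom (algebraMap k K)))) G.hom
      (Spec.map (CommRingCat.ofHom (algebraMap k K))) := IsPullback.of_hasPullback _ _
  have po := isPushout_appTop sq
  constructor
  · intro h
    exact po.isIso_inr_of_isIso
  · intro h
    have : IsIso (pullback.snd G.hom (Spec.map (CommRingCat.ofHom (algebraMap k K)))).appTop := h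
    have : Nontrivial Γ(Spec (CommRingCat.of K), ⊤) :=
      (Scheme.ΓSpecIso (CommRingCat.of K)).commRingCatIsoToRingEquiv.toEquiv.nontrivial
    exact isIso_of_isPushout_of_isField po (isField_gammaSpec k)

end Groth.Agent.H3.AntiAff
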