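import Mathlib
import Groth.Prelude.Def_AlgGrp

/-!
# Actions in point form
-/

set_option autoImplicit false

open CategoryTheory Limits AlgebraicGeometry MonoidalCategory CartesianMonoidalCategory MonObj

universe u

namespace Groth.Agent.H3.ActPt

variable {S : Scheme.{u}} {G Z : Over S} [GrpObj G]

theorem one_pt (a : AlgGrp.Action G Z) {T : Over S} (z : T ⟶ Z) :
    lift (toUnit T ≫ η[G]) z ≫ a.act = z := by
  have h1 : lift (toUnit T ≫ η[G]) z = lift (toUnit T) z ≫ (η[G] ▷ Z) := by
    rw [lift_whiskerRight]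
  rw [h1, Category.assoc, a.one_act, lift_leftUnitor_hom]

theorem mul_pt (a : AlgGrp.Action G Z) {T : Over S} (g h : T ⟶ G) (z : T ⟶ Z) :
    lift (g * h) z ≫ a.act = lift g (lift h z ≫ a.act) ≫ a.act := by
  have h1 : lift (g * h) z = lift (lift g h) z ≫ (μ[G] ▷ Z) := by
    rw [lift_whiskerRight, Hom.mul_def]
  have h2 : lift (lift g h) z ≫ (α_ G G Z).hom ≫ (G ◁ a.act) = lift g (lift h z ≫ a.act) := by
    apply CartesianMonoidalCategory.hom_ext
    · simp
    · simp
  rw [h1, Category.assoc, a.mul_act, ← h2]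
  simp only [Category.assoc]

/-- an action from its point form -/
noncomputable def mkOfPt (act : G ⊗ Z ⟶ Z)
    (h1 : ∀ {T : Over S} (z : T ⟶ Z), lift (toUnit T ≫ η[G]) z ≫ act = z)
    (hmul : ∀ {T : Over S} (g h : T ⟶ G) (z : T ⟶ Z),
      lift (g * h) z ≫ act = lift g (lift h z ≫ act) ≫ act) : AlgGrp.Action G Z where
  act := act
  one_act := by
    have h2 : η[G] ▷ Z = lift (toUnit _ ≫ η[G]) (snd _ Z) := by
      apply CartesianMonoidalCategory.hom_ext
      · rw [whiskerRight_fst, lift_fst]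
        congr 1
      · rw [whiskerRight_snd, lift_snd]
    rw [h2, h1, leftUnitor_hom]
  mul_act := by
    have h2 : μ[G] ▷ Z = lift ((fst (G ⊗ G) Z ≫ fst G G) * (fst (G ⊗ G) Z ≫ snd G G))
        (snd (G ⊗ G) Z) := by
      apply CartesianMonoidalCategory.hom_ext
      · rw [whiskerRight_fst, lift_fst, Hom.mul_def, ← comp_lift, lift_fst_snd, Category.comp_id]
      · rw [whiskerRight_snd, lift_snd]
    have h3 : (α_ G G Z).hom ≫ (G ◁ act) =
        lift (fst (G ⊗ G) Z ≫ fst G G) (lift (fst (G ⊗ G) Z ≫ snd G G) (snd (G ⊗ G) Z) ≫ act) := by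
      apply CartesianMonoidalCategory.hom_ext
      · simp
      · simp only [Category.assoc, whiskerLeft_snd, lift_snd]
        rw [← Category.assoc]
        congr 1
        apply CartesianMonoidalCategory.hom_ext <;> simp
    rw [h2, hmul, ← h3, Category.assoc]

@[simp] lemma mkOfPt_act (act : G ⊗ Z ⟶ Z)
    (h1 : ∀ {T : Over S} (z : T ⟶ Z), lift (toUnit T ≫ η[G]) z ≫ act = z)
    (hmul : ∀ {T : Over S} (g h : T ⟶ G) (z : T ⟶ Z),
      lift (g * h) z ≫ act = lift g (lift h z ≫ act) ≫ act) :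
    (mkOfPt act h1 hmul).act = act := rfl

theorem action_ext {a b : AlgGrp.Action G Z} (h : a.act = b.act) : a = b := by
  cases a; cases b
  congr

end Groth.Agent.H3.ActPt
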