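import Mathlib

/-!
# Morphisms from a scheme with `Γ(X) = Γ(S)` to an affine scheme are constant
-/

set_option autoImplicit false

open CategoryTheory Limits AlgebraicGeometry MonoidalCategory CartesianMonoidalCategory

universe u

namespace Groth.Agent.H3.AntiAff

variable {S : Scheme.{u}}

/-- a morphism from `X` with `Γ(X) = Γ(S)` to an affine scheme factors through any section -/
theorem const_of_affine_target (X N : Over S) [IsIso X.hom.appTop] [IsAffine N.left]
    (x₀ : 𝟙_ (Over S) ⟶ X) (u : X ⟶ N) : u = toUnit X ≫ x₀ ≫ u := by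
  apply Over.OverMorphism.ext
  apply ext_of_isAffine
  have h1 : (toUnit X).left = X.hom := by
    have := Over.w (toUnit X)
    simp
  have h2 : x₀.left ≫ X.hom = 𝟙 S := Over.w x₀
  have h3 : X.hom.appTop ≫ x₀.left.appTop = 𝟙 _ := by
    rw [← Scheme.Hom.comp_appTop, h2]
    rfl
  have h4 : x₀.left.appTop = inv X.hom.appTop := IsIso.eq_inv_of_hom_inv_id h3
  rw [Over.comp_left, Over.comp_left, Scheme.Hom.comp_appTop, Scheme.Hom.comp_appTop, h1, h4]
  simp

end Groth.Agent.H3.AntiAff
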