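import Mathlib
import Groth.Agent.Lib.Helper3.AntiAff.Const

/-!
# The kernel of the affinization morphism `G ⟶ Spec Γ(G)`
-/

set_option autoImplicit false

open CategoryTheory Limits AlgebraicGeometry MonoidalCategory CartesianMonoidalCategory MonObj

universe u

namespace Groth.Agent.H3.AntiAff

variable {k : Type u} [Field k]

lemma exists_gammaStr (G : Over (Spec (CommRingCat.of k))) :
    ∃ ζ : Spec Γ(G.left, ⊤) ⟶ Spec (CommRingCat.of k), G.left.toSpecΓ ≫ ζ = G.hom := by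
  refine ⟨Spec.map ((Scheme.ΓSpecIso (CommRingCat.of k)).inv ≫ G.hom.appTop), ?_⟩
  rw [Spec.map_comp, ← Scheme.toSpecΓ_naturality_assoc, toSpecΓ_SpecMap_ΓSpecIso_inv,
    Category.comp_id]

lemma toUnit_left (N : Over (Spec (CommRingCat.of k))) : (toUnit N).left = N.hom := by
  simp

/-- the kernel of `G ⟶ Spec Γ(G)` is contained in the kernel of every homomorphism to an affine
group -/
theorem affKer_le_kernel (G H Q : Over (Spec (CommRingCat.of k))) [GrpObj G] [GrpObj Q]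
    (h : H ⟶ G) (q : G ⟶ Q) [IsMonHom q] (hk : IsPullback h (toUnit H) q η[Q])
    [IsAffine Q.left] :
    ∃ f : pullback G.left.toSpecΓ (η[G].left ≫ G.left.toSpecΓ) ⟶ H.left,
      f ≫ h.left = pullback.fst G.left.toSpecΓ (η[G].left ≫ G.left.toSpecΓ) := by
  obtain ⟨p₁, hp₁⟩ : ∃ p₁, p₁ = pullback.fst G.left.toSpecΓ (η[G].left ≫ G.left.toSpecΓ) :=
    ⟨_, rfl⟩
  obtain ⟨p₂, hp₂⟩ : ∃ p₂, p₂ = pullback.snd G.left.toSpecΓ (η[G].left ≫ G.left.toSpecΓ) :=
    ⟨_, rfl⟩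
  have hcond : p₁ ≫ G.left.toSpecΓ = p₂ ≫ η[G].left ≫ G.left.toSpecΓ := by
    rw [hp₁, hp₂]; exact pullback.condition
  obtain ⟨ζ, hζ⟩ := exists_gammaStr G
  have hη : η[G].left ≫ G.hom = 𝟙 _ := Over.w η[G]
  have hp : p₁ ≫ G.hom = p₂ := by
    rw [← hζ, reassoc_of% hcond, hζ, hη]
    exact Category.comp_id _
  rw [← hp₁]
  obtain ⟨N, n, hN, hn⟩ : ∃ (N : Over (Spec (CommRingCat.of k))) (n : N ⟶ G)
      (hN : N.left = pullback G.left.toSpecΓ (η[G].left ≫ G.left.toSpecΓ)),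
      n.left = eqToHom hN ≫ p₁ ∧ N.hom = eqToHom hN ≫ p₂ :=
    ⟨Over.mk p₂, Over.homMk p₁ hp, rfl, by simp, by simp⟩
  obtain ⟨hn1, hn2⟩ := hn
  obtain ⟨β, hq⟩ : ∃ β : Spec Γ(G.left, ⊤) ⟶ Q.left, q.left = G.left.toSpecΓ ≫ β :=
    ⟨Spec.map q.left.appTop ≫ inv Q.left.toSpecΓ, by
      rw [← Scheme.toSpecΓ_naturality_assoc, IsIso.hom_inv_id, Category.comp_id]⟩
  have hone : η[G].left ≫ q.left = η[Q].left := by rw [← Over.comp_left, IsMonHom.one_hom]
  have hnq : n ≫ q = toUnit N ≫ η[Q] := by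
    apply Over.OverMorphism.ext
    rw [Over.comp_left, Over.comp_left, toUnit_left, hn1, hn2, Category.assoc, Category.assoc,
      hq, reassoc_of% hcond, ← hq, hone]
  refine ⟨eqToHom hN.symm ≫ (hk.lift n (toUnit N) hnq).left, ?_⟩
  rw [Category.assoc, ← Over.comp_left, hk.lift_fst, hn1, eqToHom_trans_assoc, eqToHom_refl,
    Category.id_comp]

/-- an anti-affine subgroup lies in the kernel of `G ⟶ Spec Γ(G)` -/
theorem antiAffine_le_affKer (G M : Over (Spec (CommRingCat.of k))) [GrpObj G] [GrpObj M]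
    (j : M ⟶ G) [IsMonHom j] [IsIso M.hom.appTop] :
    ∃ f : M.left ⟶ pullback G.left.toSpecΓ (η[G].left ≫ G.left.toSpecΓ),
      f ≫ pullback.fst G.left.toSpecΓ (η[G].left ≫ G.left.toSpecΓ) = j.left := by
  obtain ⟨ζ, hζ⟩ := exists_gammaStr G
  obtain ⟨Z, ρ, hZ, hρ⟩ : ∃ (Z : Over (Spec (CommRingCat.of k))) (ρ : G ⟶ Z)
      (hZ : Z.left = Spec Γ(G.left, ⊤)), ρ.left = G.left.toSpecΓ ≫ eqToHom hZ.symm :=
    ⟨Over.mk ζ, Over.homMk G.left.toSpecΓ hζ, rfl, by simp⟩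
  have : IsAffine Z.left := hZ ▸ (inferInstance : IsAffine (Spec Γ(G.left, ⊤)))
  have hc := const_of_affine_target M Z η[M] (j ≫ ρ)
  have hone : η[M].left ≫ j.left = η[G].left := by rw [← Over.comp_left, IsMonHom.one_hom]
  have hc' : j.left ≫ G.left.toSpecΓ = M.hom ≫ η[G].left ≫ G.left.toSpecΓ := by
    have h1 := congrArg (fun t => t.left ≫ eqToHom hZ) hc
    simp only [Over.comp_left, toUnit_left, hρ, Category.assoc, eqToHom_trans, eqToHom_refl,
      Category.comp_id] at h1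
    rw [h1, reassoc_of% hone]
  exact ⟨pullback.lift j.left M.hom hc', pullback.lift_fst _ _ _⟩

end Groth.Agent.H3.AntiAff
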