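import Mathlib
import Groth.Agent.Lib.Helper3.AntiAff.Conn

/-!
# The kernel of the affinization of a proper group scheme is the identity component
-/

set_option autoImplicit false

open CategoryTheory Limits AlgebraicGeometry MonoidalCategory CartesianMonoidalCategory MonObj
  TopologicalSpace

universe u

namespace Groth.Agent.H3.AntiAff

/-- an element integral over a field satisfies `f ^ n = f ^ (n + 1) * b` -/
theorem exists_pow_eq_pow_succ_mul {k R : Type*} [Field k] [CommRing R] [Algebra k R] (f : R)
    (hf : IsIntegral k f) : ∃ (n : ℕ) (b : R), f ^ n = f ^ (n + 1) * b := by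
  have hfin : Module.Finite k ↥(Algebra.adjoin k {f}) :=
    Module.Finite.iff_fg.mpr hf.fg_adjoin_singleton
  have hart : IsArtinianRing ↥(Algebra.adjoin k {f}) := IsArtinianRing.of_finite k _
  obtain ⟨n, y, hy⟩ := IsArtinian.exists_pow_succ_smul_dvd
    (⟨f, Algebra.subset_adjoin rfl⟩ : ↥(Algebra.adjoin k {f})) (1 : ↥(Algebra.adjoin k {f}))
  refine ⟨n, y.1, ?_⟩
  have h := congrArg Subtype.val hy
  simp only [smul_eq_mul, MulMemClass.coe_mul, SubmonoidClass.coe_pow, _root_.mul_one,
    Nat.succ_eq_add_one] at h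
  exact h.symm

/-- connected components of a noetherian space are open -/
theorem isOpen_connectedComponent_of_noetherianSpace {α : Type*} [TopologicalSpace α]
    [NoetherianSpace α] (x : α) : IsOpen (connectedComponent x) := by
  have hfin : (irreducibleComponents α).Finite := NoetherianSpace.finite_irreducibleComponents
  have hc : (connectedComponent x)ᶜ =
      ⋃ Z ∈ {Z ∈ irreducibleComponents α | Disjoint Z (connectedComponent x)}, Z := by
    ext y
    simp only [Set.mem_compl_iff, Set.mem_iUnion, Set.mem_ofPred_eq, exists_prop]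
    constructor
    · intro hy
      refine ⟨irreducibleComponent y, ⟨irreducibleComponent_mem_irreducibleComponents y, ?_⟩,
        mem_irreducibleComponent⟩
      rw [Set.disjoint_iff]
      rintro z ⟨hz1, hz2⟩
      apply hy
      have hpre : IsPreconnected (irreducibleComponent y) :=
        isIrreducible_irreducibleComponent.isPreirreducible.isPreconnected
      have h1 := hpre.subset_connectedComponent hz1
      rw [← connectedComponent_eq hz2] at h1
      exact h1 mem_irreducibleComponent
    · rintro ⟨Z, ⟨hZ, hdis⟩, hyZ⟩ hy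
      exact Set.disjoint_left.mp hdis hyZ hy
  rw [← isClosed_compl_iff, hc]
  exact (hfin.subset (fun Z hZ => hZ.1)).isClosed_biUnion
    (fun Z hZ => isClosed_of_mem_irreducibleComponents Z hZ.1)

/-- if `f ^ n = f ^ (n + 1) * b` then the non-vanishing locus of `f` is open and closed -/
theorem isClopen_basicOpen_of_pow (X : Scheme.{u}) (f b : Γ(X, ⊤)) (n : ℕ)
    (h : f ^ n = f ^ (n + 1) * b) : IsClopen (X.basicOpen f : Set X) := by
  have hpow : ∀ m : ℕ, X.basicOpen f ≤ X.basicOpen (f ^ m) := by
    intro m
    induction m with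
    | zero => rw [pow_zero, Scheme.basicOpen_one]; exact le_top
    | succ m ih => rw [pow_succ, Scheme.basicOpen_mul]; exact le_inf ih le_rfl
  have hg : f ^ n * (1 - f * b) = 0 := by
    rw [mul_sub, _root_.mul_one, ← _root_.mul_assoc, ← pow_succ, ← h, sub_self]
  have hdisj : X.basicOpen f ⊓ X.basicOpen (1 - f * b) = ⊥ := by
    apply le_bot_iff.mp
    calc X.basicOpen f ⊓ X.basicOpen (1 - f * b)
        ≤ X.basicOpen (f ^ n) ⊓ X.basicOpen (1 - f * b) := inf_le_inf_right _ (hpow n)
      _ = X.basicOpen (f ^ n * (1 - f * b)) := (Scheme.basicOpen_mul _ _ _).symm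
      _ = ⊥ := by rw [hg, Scheme.basicOpen_zero]
  have hcov : X.basicOpen f ⊔ X.basicOpen (1 - f * b) = ⊤ := by
    apply top_le_iff.mp
    calc (⊤ : X.Opens) = X.basicOpen (1 : Γ(X, ⊤)) := (Scheme.basicOpen_one _).symm
      _ = X.basicOpen (f * b + (1 - f * b)) := by rw [add_sub_cancel]
      _ ≤ X.basicOpen (f * b) ⊔ X.basicOpen (1 - f * b) := X.basicOpen_add_le _ _
      _ ≤ X.basicOpen f ⊔ X.basicOpen (1 - f * b) :=
        sup_le_sup_right (by rw [Scheme.basicOpen_mul]; exact inf_le_left) _
  have hcompl : (X.basicOpen f : Set X) = ((X.basicOpen (1 - f * b) : Set X))ᶜ := by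
    ext x
    constructor
    · intro hx hx'
      have h1 : x ∈ X.basicOpen f ⊓ X.basicOpen (1 - f * b) := ⟨hx, hx'⟩
      rw [hdisj] at h1
      exact h1
    · intro hx
      have h1 : x ∈ X.basicOpen f ⊔ X.basicOpen (1 - f * b) := by rw [hcov]; trivial
      rw [← SetLike.mem_coe, Opens.coe_sup, Set.mem_union] at h1
      rcases h1 with h1 | h1
      · exact h1
      · exact absurd h1 hx
  refine ⟨?_, (X.basicOpen f).isOpen⟩
  rw [hcompl]
  exact (X.basicOpen (1 - f * b)).isOpen.isClosed_compl

lemma mem_basicOpen_iff_toSpecΓ (X : Scheme.{u}) (f : Γ(X, ⊤)) (x : X) :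
    x ∈ X.basicOpen f ↔ f ∉ (X.toSpecΓ x : PrimeSpectrum Γ(X, ⊤)).asIdeal := by
  rw [← Scheme.toSpecΓ_preimage_basicOpen]
  rfl

variable {k : Type u} [Field k]

set_option maxHeartbeats 800000 in
/-- for a proper group scheme (indeed any noetherian scheme universally closed over a field), the
fibre of `G ⟶ Spec Γ(G)` through a point is its connected component -/
theorem toSpecΓ_fibre_eq_connectedComponent (G : Over (Spec (CommRingCat.of k)))
    [UniversallyClosed G.hom] [NoetherianSpace G.left] (e₀ x : G.left) :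
    G.left.toSpecΓ x = G.left.toSpecΓ e₀ ↔ x ∈ connectedComponent e₀ := by
  have hint : ((Scheme.ΓSpecIso (CommRingCat.of k)).inv ≫ G.hom.appTop).hom.IsIntegral := by
    apply RingHom.isIntegral_respectsIso.2
      (e := (Scheme.ΓSpecIso (CommRingCat.of k)).symm.commRingCatIsoToRingEquiv)
    exact isIntegral_appTop_of_universallyClosed G.hom
  algebraize [((Scheme.ΓSpecIso (CommRingCat.of k)).inv ≫ G.hom.appTop).hom]
  have hclopen : ∀ f : Γ(G.left, ⊤), IsClopen (G.left.basicOpen f : Set G.left) := by
    intro f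
    obtain ⟨n, b, h⟩ := exists_pow_eq_pow_succ_mul (k := k) f (Algebra.IsIntegral.isIntegral f)
    exact isClopen_basicOpen_of_pow G.left f b n h
  constructor
  · intro hx
    have hCo : IsOpen (connectedComponent e₀) := isOpen_connectedComponent_of_noetherianSpace e₀
    have hCc : IsClosed (connectedComponent e₀) := isClosed_connectedComponent
    let U₁ : G.left.Opens := ⟨connectedComponent e₀, hCo⟩
    let U₂ : G.left.Opens := ⟨(connectedComponent e₀)ᶜ, hCc.isOpen_compl⟩
    have hdisj : U₁ ⊓ U₂ = ⊥ := by
      ext y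
      simp [U₁, U₂]
    have hcov : U₁ ⊔ U₂ = ⊤ := by
      ext y
      simp [U₁, U₂]
    obtain ⟨ε, -, h1, h2⟩ := exists_idempotent_of_disjoint_cover G.left U₁ U₂ hdisj hcov
    have hb1 : U₁ ≤ G.left.basicOpen ε := by
      have := G.left.basicOpen_res ε (homOfLE (le_top : U₁ ≤ ⊤)).op
      rw [h1, Scheme.basicOpen_one] at this
      rw [this]
      exact inf_le_right
    have hb2 : U₂ ⊓ G.left.basicOpen ε = ⊥ := by
      have := G.left.basicOpen_res ε (homOfLE (le_top : U₂ ≤ ⊤)).op
      rw [h2, Scheme.basicOpen_zero] at this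
      exact this.symm
    have he : e₀ ∈ G.left.basicOpen ε := hb1 (show e₀ ∈ connectedComponent e₀ from mem_connectedComponent)
    rw [mem_basicOpen_iff_toSpecΓ, ← hx, ← mem_basicOpen_iff_toSpecΓ] at he
    by_contra hxC
    have : x ∈ U₂ ⊓ G.left.basicOpen ε := ⟨hxC, he⟩
    rw [hb2] at this
    exact this
  · intro hx
    apply PrimeSpectrum.ext
    ext f
    have h1 := mem_basicOpen_iff_toSpecΓ G.left f x
    have h2 := mem_basicOpen_iff_toSpecΓ G.left f e₀
    have h3 : x ∈ G.left.basicOpen f ↔ e₀ ∈ G.left.basicOpen f := by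
      constructor
      · intro hxf
        by_contra he
        have hsub := (hclopen f).compl.connectedComponent_subset (x := e₀) he
        exact hsub hx hxf
      · intro he
        exact (hclopen f).connectedComponent_subset he hx
    rw [h1, h2, not_iff_not] at h3
    exact h3

/-- the kernel of the affinization of a proper group scheme is, as a set, the identity
component -/
theorem range_affKer_eq_connectedComponent (G : Over (Spec (CommRingCat.of k))) [GrpObj G]
    [IsProper G.hom] (t : ↥((𝟙_ (Over (Spec (CommRingCat.of k)))).left)) :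
    Set.range ⇑(pullback.fst G.left.toSpecΓ (η[G].left ≫ G.left.toSpecΓ)).base =
      connectedComponent ((η[G]).left.base t) := by
  have : IsLocallyNoetherian G.left := LocallyOfFiniteType.isLocallyNoetherian G.hom
  have : CompactSpace G.left := QuasiCompact.compactSpace_of_compactSpace G.hom
  have : IsNoetherian G.left := {}
  have hr : Set.range ⇑(pullback.fst G.left.toSpecΓ (η[G].left ≫ G.left.toSpecΓ)).base =
      G.left.toSpecΓ ⁻¹' Set.range (η[G].left ≫ G.left.toSpecΓ) :=
    Scheme.Pullback.range_fst _ _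
  rw [hr]
  ext x
  rw [← toSpecΓ_fibre_eq_connectedComponent G]
  constructor
  · rintro ⟨s, hs⟩
    have : s = t := Subsingleton.elim (α := ↥(Spec (CommRingCat.of k))) _ _
    rw [← hs, this]
    rfl
  · intro hx
    exact ⟨t, hx.symm⟩

end Groth.Agent.H3.AntiAff
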