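import Mathlib
import Groth.Agent.Lib.Helper3.GrpQuot1
import Groth.Agent.Lib.Helper3.AntiAff.Gamma

/-!
# Rigidity for products with an anti-affine factor, part 1: affine targets and thickenings
-/

set_option autoImplicit false

open CategoryTheory Limits AlgebraicGeometry MonoidalCategory CartesianMonoidalCategory
open TensorProduct

universe u

namespace Groth.Agent.H3.AntiAff

section general

variable {S : Scheme.{u}}

/-- a morphism from `X × T` (`Γ(X) = Γ(S)`, `T` affine flat) landing in an affine open does not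
depend on the `X`-coordinate -/
theorem factor_of_range_subset [IsAffine S] (X T Z : Over S) [IsAffine T.left] [Flat T.hom]
    [CompactSpace X.left] [QuasiSeparatedSpace X.left] [IsIso X.hom.appTop]
    (x₀ : 𝟙_ (Over S) ⟶ X) (h : X ⊗ T ⟶ Z) (Z₀ : Z.left.Opens) (hZ₀ : IsAffineOpen Z₀)
    (hr : Set.range h.left ⊆ (Z₀ : Set Z.left)) :
    h = snd X T ≫ lift (toUnit T ≫ x₀) (𝟙 T) ≫ h := by
  have : IsIso (snd X T).left.appTop := isIso_snd_appTop X T
  obtain ⟨s, hs⟩ : ∃ s : T ⟶ X ⊗ T, s = lift (toUnit T ≫ x₀) (𝟙 T) := ⟨_, rfl⟩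
  rw [← hs]
  have hs1 : s ≫ snd X T = 𝟙 T := by rw [hs]; simp
  have hid : (snd X T ≫ s).left.appTop = 𝟙 _ := by
    rw [Over.comp_left, Scheme.Hom.comp_appTop]
    have h2 : (snd X T).left.appTop ≫ s.left.appTop = 𝟙 _ := by
      rw [← Scheme.Hom.comp_appTop, ← Over.comp_left, hs1]
      simp
    have h3 : s.left.appTop = inv (snd X T).left.appTop := IsIso.eq_inv_of_hom_inv_id h2
    rw [h3]
    simp
  apply Over.OverMorphism.ext
  have : IsAffine (Z₀ : Scheme.{u}) := hZ₀
  have hr' : Set.range h.left ⊆ Set.range Z₀.ι := by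
    rw [Scheme.Opens.range_ι]; exact hr
  obtain ⟨h₀, hh₀⟩ : ∃ h₀ : (X ⊗ T).left ⟶ (Z₀ : Scheme.{u}), h₀ ≫ Z₀.ι = h.left :=
    ⟨IsOpenImmersion.lift Z₀.ι h.left hr', IsOpenImmersion.lift_fac _ _ _⟩
  have key : h₀ = (snd X T ≫ s).left ≫ h₀ := by
    apply ext_of_isAffine
    rw [Scheme.Hom.comp_appTop, hid, Category.comp_id]
  calc h.left = h₀ ≫ Z₀.ι := hh₀.symm
    _ = ((snd X T ≫ s).left ≫ h₀) ≫ Z₀.ι := by rw [← key]
    _ = (snd X T ≫ s ≫ h).left := by
      rw [Category.assoc, hh₀]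
      simp

lemma surjective_whiskerLeft (X : Over S) {A B : Over S} (c : A ⟶ B) [Surjective c.left] :
    Surjective (X ◁ c).left := by
  have sq := (Groth.Agent.H3.GrpQuot.isPullback_whiskerLeft X c).map (Over.forget S)
  exact MorphismProperty.of_isPullback (P := @Surjective) sq.flip (inferInstanceAs (Surjective c.left))

end general

section thick

variable {k : Type u} [Field k]

/-- `Spec k ⟶ Spec (R / (ker χ)ⁿ⁺¹)` is surjective for a surjective `χ : R → k` -/
lemma comap_lift_surjective {R : Type u} [CommRing R] (χ : R →+* k)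
    (hχ : Function.Surjective χ) (n : ℕ)
    (h : ∀ a ∈ (RingHom.ker χ) ^ (n + 1), χ a = 0) :
    Function.Surjective (PrimeSpectrum.comap (Ideal.Quotient.lift ((RingHom.ker χ) ^ (n + 1)) χ h)) := by
  intro q
  have hmax : (RingHom.ker χ).IsMaximal := RingHom.ker_isMaximal_of_surjective χ hχ
  let q' : Ideal R := q.asIdeal.comap (Ideal.Quotient.mk ((RingHom.ker χ) ^ (n + 1)))
  have hq'prime : q'.IsPrime := Ideal.comap_isPrime _ _
  have hle : RingHom.ker χ ≤ q' := by
    have h1 : (RingHom.ker χ) ^ (n + 1) ≤ q' := by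
      intro a ha
      change Ideal.Quotient.mk _ a ∈ q.asIdeal
      rw [Ideal.Quotient.eq_zero_iff_mem.2 ha]
      exact q.asIdeal.zero_mem
    exact (hq'prime.pow_le_iff (Nat.succ_ne_zero n)).1 h1
  have heq : RingHom.ker χ = q' := hmax.eq_of_le hq'prime.ne_top hle
  refine ⟨⟨⊥, Ideal.isPrime_bot⟩, ?_⟩
  apply PrimeSpectrum.ext
  ext x
  obtain ⟨r, rfl⟩ := Ideal.Quotient.mk_surjective x
  change Ideal.Quotient.lift _ χ h (Ideal.Quotient.mk _ r) ∈ (⊥ : Ideal k) ↔ _
  rw [Ideal.Quotient.lift_mk, Ideal.mem_bot]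
  change r ∈ RingHom.ker χ ↔ r ∈ q'
  rw [heq]

end thick

end Groth.Agent.H3.AntiAff
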