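import Mathlib

/-!
# Algebra for the rigidity lemma: Krull intersection and coordinates in a base-changed free module
-/

set_option autoImplicit false

open TensorProduct

universe u

namespace Groth.Agent.H3.AntiAff

/-- Krull + Nakayama: in a noetherian ring, `⋂ Iⁿ` is killed by an element `s ∉ I`. -/
theorem exists_not_mem_mul_eq_zero {R : Type*} [CommRing R] [IsNoetherianRing R] (I : Ideal R)
    (hI : I ≠ ⊤) : ∃ s : R, s ∉ I ∧ ∀ r, (∀ n : ℕ, r ∈ I ^ (n + 1)) → s * r = 0 := by
  let N : Ideal R := ⨅ n : ℕ, I ^ (n + 1)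
  have hfg : N.FG := IsNoetherian.noetherian N
  have hle : N ≤ I • N := by
    intro r hr
    have h1 : r ∈ (⨅ i : ℕ, I ^ i • (⊤ : Submodule R R)) := by
      rw [Submodule.mem_iInf]
      intro i
      rw [smul_eq_mul, Ideal.mul_top]
      cases i with
      | zero => simp
      | succ n => exact (Submodule.mem_iInf _).1 hr n
    obtain ⟨a, ha⟩ := (Ideal.mem_iInf_smul_pow_eq_bot_iff I r).1 h1
    rw [← ha]
    exact Submodule.smul_mem_smul a.2 hr
  obtain ⟨s, hs1, hs2⟩ :=
    Submodule.exists_sub_one_mem_and_smul_eq_zero_of_fg_of_le_smul I N hfg hle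
  refine ⟨s, fun hs => hI ?_, fun r hr => hs2 r ((Submodule.mem_iInf _).2 hr)⟩
  rw [Ideal.eq_top_iff_one]
  have := I.sub_mem hs hs1
  simpa using this

section coords

variable {R : Type u} [CommRing R] {A : Type u} [CommRing A] [Algebra R A]
  {B : Type u} [CommRing B] [Algebra R B]

/-- coordinates of a base-changed element -/
lemma basis_repr_map {A' : Type u} [CommRing A'] [Algebra R A'] {ι : Type*} (b : Module.Basis ι R B)
    (φ : A →ₐ[R] A') (w : A ⊗[R] B) (i : ι) :
    (Algebra.TensorProduct.basis A' b).repr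
      (Algebra.TensorProduct.map φ (AlgHom.id R B) w) i =
      φ ((Algebra.TensorProduct.basis A b).repr w i) := by
  induction w using TensorProduct.induction_on with
  | zero => simp
  | tmul a m =>
    rw [Algebra.TensorProduct.map_tmul, Algebra.TensorProduct.basis_repr_tmul,
      Algebra.TensorProduct.basis_repr_tmul]
    simp [Finsupp.mapRange_apply, Algebra.smul_def]
  | add x y hx hy =>
    rw [map_add, map_add, Finsupp.add_apply, hx, hy, map_add, Finsupp.add_apply, map_add]

/-- an element of `A ⊗ B` (`B` free) dying in all `A' n ⊗ B` is killed by any `s` killing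
`⋂ ker (A → A' n)` -/
theorem tmul_one_mul_eq_zero [Module.Free R B] {J : Type*} (A' : J → Type u)
    [∀ n, CommRing (A' n)] [∀ n, Algebra R (A' n)] (φ : ∀ n, A →ₐ[R] A' n) (s : A)
    (hs : ∀ r : A, (∀ n, φ n r = 0) → s * r = 0) (w : A ⊗[R] B)
    (hw : ∀ n, Algebra.TensorProduct.map (φ n) (AlgHom.id R B) w = 0) :
    (s ⊗ₜ[R] (1 : B)) * w = 0 := by
  let b := Module.Free.chooseBasis R B
  have hc : ∀ i, s * (Algebra.TensorProduct.basis A b).repr w i = 0 := by
    intro i
    apply hs
    intro n
    rw [← basis_repr_map b (φ n) w i, hw n]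
    simp
  have h1 : (s ⊗ₜ[R] (1 : B)) * w = s • w := by
    rw [Algebra.smul_def]
    rfl
  rw [h1]
  apply (Algebra.TensorProduct.basis A b).repr.injective
  ext i
  rw [map_smul, Finsupp.smul_apply, smul_eq_mul, hc i]
  simp

end coords

end Groth.Agent.H3.AntiAff
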