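import Mathlib
import Groth.Agent.Lib.Helper3.AntiAff.Gamma
import Groth.Agent.Lib.Helper3.AntiAff.Krull

/-!
# Rigidity for products with an anti-affine factor, part 2: sections of `U × T` dying on thickenings
-/

set_option autoImplicit false

open CategoryTheory Limits AlgebraicGeometry MonoidalCategory CartesianMonoidalCategory
open TensorProduct

universe u

namespace Groth.Agent.H3.AntiAff

/-- lifting through a closed subscheme of an affine scheme, in terms of kernels on global sections -/
theorem exists_lift_of_ker_le {A E W : Scheme.{u}} [IsAffine A] (e : E ⟶ A) [IsClosedImmersion e]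
    (m : W ⟶ A) (h : RingHom.ker e.appTop.hom ≤ RingHom.ker m.appTop.hom) :
    ∃ l : W ⟶ E, l ≫ e = m := by
  refine ⟨IsClosedImmersion.lift e m ?_, IsClosedImmersion.lift_fac _ _ _⟩
  rw [Scheme.ker_of_isAffine, Scheme.ker_of_isAffine]
  exact (Scheme.IdealSheafData.equivOfIsAffine (X := A)).symm.toOrderIso.monotone h

variable {S : Scheme.{u}}

/-- a global function on `U × T` (`U`, `T` affine over a field) which dies on all `U × Tₙ` is killed
by any function `s` on `T` killing the functions dying on all `Tₙ` -/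
theorem mul_eq_zero_of_thickenings [IsAffine S] (hS : IsField Γ(S, ⊤))
    (U T : Over S) [IsAffine U.left] [IsAffine T.left] [Flat T.hom]
    {J : Type*} (Tn : J → Over S) [∀ n, IsAffine (Tn n).left] [∀ n, Flat (Tn n).hom]
    (τ : ∀ n, Tn n ⟶ T) (s : Γ(T.left, ⊤))
    (hs : ∀ r : Γ(T.left, ⊤), (∀ n, (τ n).left.appTop.hom r = 0) → s * r = 0)
    (z : Γ((U ⊗ T).left, ⊤)) (hz : ∀ n, (U ◁ τ n).left.appTop.hom z = 0) :
    (snd U T).left.appTop.hom s * z = 0 := by
  letI := hS.toField
  letI : Algebra Γ(S, ⊤) Γ(T.left, ⊤) := T.hom.appTop.hom.toAlgebra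
  letI : Algebra Γ(S, ⊤) Γ(U.left, ⊤) := U.hom.appTop.hom.toAlgebra
  letI : ∀ n, Algebra Γ(S, ⊤) Γ((Tn n).left, ⊤) := fun n => (Tn n).hom.appTop.hom.toAlgebra
  obtain ⟨ψ, hψ⟩ := exists_tensorEquiv U T rfl rfl
  have hex := fun n => exists_tensorEquiv U (Tn n) rfl rfl
  choose ψn hψn using hex
  let φ : ∀ n, Γ(T.left, ⊤) →ₐ[Γ(S, ⊤)] Γ((Tn n).left, ⊤) := fun n =>
    { (τ n).left.appTop.hom with
      commutes' := fun a => by
        change (τ n).left.appTop.hom (T.hom.appTop.hom a) = (Tn n).hom.appTop.hom a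
        rw [← CommRingCat.comp_apply, ← Scheme.Hom.comp_appTop, Over.w] }
  have hφ : ∀ n a, φ n a = (τ n).left.appTop.hom a := fun n a => rfl
  have compat : ∀ n w, (U ◁ τ n).left.appTop.hom (ψ w) =
      ψn n (Algebra.TensorProduct.map (φ n) (AlgHom.id _ _) w) := by
    intro n w
    induction w using TensorProduct.induction_on with
    | zero => simp
    | tmul a b =>
      rw [hψ, map_mul, Algebra.TensorProduct.map_tmul, hψn, hφ, AlgHom.id_apply]
      congr 1
      · rw [← CommRingCat.comp_apply, ← CommRingCat.comp_apply, ← Scheme.Hom.comp_appTop,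
          ← Scheme.Hom.comp_appTop, ← Over.comp_left, ← Over.comp_left, whiskerLeft_snd]
      · rw [← CommRingCat.comp_apply, ← Scheme.Hom.comp_appTop, ← Over.comp_left,
          whiskerLeft_fst]
    | add x y hx hy => rw [map_add, map_add, map_add, map_add, hx, hy]
  have hw : ∀ n, Algebra.TensorProduct.map (φ n) (AlgHom.id _ _) (ψ.symm z) = 0 := fun n => by
    apply (ψn n).injective
    rw [← compat, ψ.apply_symm_apply, hz n, map_zero]
  have h1 := tmul_one_mul_eq_zero (fun n => Γ((Tn n).left, ⊤)) φ s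
    (fun r hr => hs r (fun n => hr n)) (ψ.symm z) hw
  have h2 := congrArg ψ h1
  rw [map_mul, hψ, map_one, mul_one, ψ.apply_symm_apply, map_zero] at h2
  exact h2

end Groth.Agent.H3.AntiAff
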