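import Mathlib
import Groth.Agent.Lib.Helper3.GrpQuot1
import Groth.Agent.Lib.Helper3.AntiAff.Rigid1
import Groth.Agent.Lib.Helper3.AntiAff.Rigid2
import Groth.Agent.Lib.Helper3.AntiAff.AABC

/-!
# Rigidity for products with an anti-affine factor, part 3: the neighbourhood statement
-/

set_option autoImplicit false

open CategoryTheory Limits AlgebraicGeometry MonoidalCategory CartesianMonoidalCategory
open TensorProduct

universe u

namespace Groth.Agent.H3.AntiAff

section cover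

variable {S : Scheme.{u}}

/-- an open of `X` as an object over `S` -/
noncomputable abbrev opn' (X : Over S) (U : X.left.Opens) : Over S := Over.mk (U.ι ≫ X.hom)

/-- the inclusion of an open of `X` as a morphism over `S` -/
noncomputable abbrev opnι' (X : Over S) (U : X.left.Opens) : opn' X U ⟶ X := Over.homMk U.ι rfl

/-- morphisms from `X × V` are determined on the `U × V`, `U` affine open in `X` -/
theorem hom_ext_of_affineOpens {X V Z : Over S} (α β : X ⊗ V ⟶ Z)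
    (h : ∀ U : X.left.affineOpens, (opnι' X U.1 ▷ V) ≫ α = (opnι' X U.1 ▷ V) ≫ β) : α = β := by
  apply Over.OverMorphism.ext
  have hcov : TopologicalSpace.IsOpenCover
      (fun U : X.left.affineOpens => (fst X V).left ⁻¹ᵁ U.1) := by
    change (⨆ U : X.left.affineOpens, (fst X V).left ⁻¹ᵁ U.1) = ⊤
    rw [← Scheme.Hom.preimage_iSup, iSup_affineOpens_eq_top]
    rfl
  apply ((X ⊗ V).left.openCoverOfIsOpenCover _ hcov).hom_ext
  intro (U : X.left.affineOpens)
  rw [Scheme.openCoverOfIsOpenCover_f]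
  have sq := (Groth.Agent.H3.GrpQuot.isPullback_whiskerRight V (opnι' X U.1)).map (Over.forget S)
  have sq' : IsPullback (opnι' X U.1 ▷ V).left (fst (opn' X U.1) V).left (fst X V).left U.1.ι := sq
  have hr : Set.range (((fst X V).left ⁻¹ᵁ U.1).ι ≫ (fst X V).left) ⊆ Set.range U.1.ι := by
    rw [Scheme.Opens.range_ι]
    rintro _ ⟨x, rfl⟩
    rw [Scheme.Hom.comp_apply]
    exact x.2
  obtain ⟨w, hw⟩ : ∃ w : ((fst X V).left ⁻¹ᵁ U.1 : Scheme.{u}) ⟶ (opn' X U.1 ⊗ V).left,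
      w ≫ (opnι' X U.1 ▷ V).left = ((fst X V).left ⁻¹ᵁ U.1).ι :=
    ⟨sq'.lift _ (IsOpenImmersion.lift U.1.ι _ hr) (IsOpenImmersion.lift_fac _ _ _).symm,
      sq'.lift_fst _ _ _⟩
  have key : (opnι' X U.1 ▷ V).left ≫ α.left = (opnι' X U.1 ▷ V).left ≫ β.left := by
    rw [← Over.comp_left, ← Over.comp_left, h U]
  change ((fst X V).left ⁻¹ᵁ U.1).ι ≫ α.left = ((fst X V).left ⁻¹ᵁ U.1).ι ≫ β.left
  rw [← hw, Category.assoc, Category.assoc, key]

end cover

section main

variable {k : Type u} [Field k]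

/-- the closed point of `Spec k` -/
noncomputable def pt0 (k : Type u) [Field k] : ↥(Spec (CommRingCat.of k)) :=
  (⟨⊥, Ideal.isPrime_bot⟩ : PrimeSpectrum k)

/-- `Spec R` over `Spec k` -/
noncomputable def specOver (R : CommRingCat.{u}) (σ : CommRingCat.of k ⟶ R) :
    Over (Spec (CommRingCat.of k)) := Over.mk (Spec.map σ)

instance (R : CommRingCat.{u}) (σ : CommRingCat.of k ⟶ R) : IsAffine (specOver R σ).left :=
  inferInstanceAs (IsAffine (Spec R))

/-- a ring map as a morphism of spectra over `Spec k` -/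
noncomputable def specOverHom {R R' : CommRingCat.{u}} (σ : CommRingCat.of k ⟶ R) (g : R ⟶ R') :
    specOver R' (σ ≫ g) ⟶ specOver R σ :=
  Over.homMk (Spec.map g) (by simp [specOver])

/-- a rational point of `Spec R` -/
noncomputable def specPt {R : CommRingCat.{u}} (σ : CommRingCat.of k ⟶ R)
    (χ : R ⟶ CommRingCat.of k) (hχ : σ ≫ χ = 𝟙 _) :
    𝟙_ (Over (Spec (CommRingCat.of k))) ⟶ specOver R σ :=
  Over.homMk (Spec.map χ) (by
    change Spec.map χ ≫ Spec.map σ = 𝟙 _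
    rw [← Spec.map_comp, hχ, Spec.map_id])

lemma specPt_comp {R R' : CommRingCat.{u}} (σ : CommRingCat.of k ⟶ R) (g : R ⟶ R')
    (χ' : R' ⟶ CommRingCat.of k) (h : (σ ≫ g) ≫ χ' = 𝟙 _) :
    specPt (σ ≫ g) χ' h ≫ specOverHom σ g = specPt σ (g ≫ χ') (by rwa [Category.assoc] at h) := by
  apply Over.OverMorphism.ext
  change Spec.map χ' ≫ Spec.map g = Spec.map (g ≫ χ')
  rw [Spec.map_comp]

lemma specPt_congr {R : CommRingCat.{u}} (σ : CommRingCat.of k ⟶ R)
    {χ₁ χ₂ : R ⟶ CommRingCat.of k} (h : χ₁ = χ₂) (h₁ : σ ≫ χ₁ = 𝟙 _) (h₂ : σ ≫ χ₂ = 𝟙 _) :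
    specPt σ χ₁ h₁ = specPt σ χ₂ h₂ := by
  subst h
  rfl

instance flat_specOver (R : CommRingCat.{u}) (σ : CommRingCat.of k ⟶ R) :
    Flat (specOver R σ).hom :=
  inferInstanceAs (Flat (Spec.map σ))

/-- a morphism from `X × T'`, `T'` a one-point affine scheme with a rational point, which is
constant on `X × pt`, does not depend on the `X`-coordinate -/
theorem thick_eq (X Z : Over (Spec (CommRingCat.of k))) [CompactSpace X.left]
    [QuasiSeparatedSpace X.left] [IsIso X.hom.appTop]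
    (x₀ : 𝟙_ (Over (Spec (CommRingCat.of k))) ⟶ X)
    {R' : CommRingCat.{u}} (σ' : CommRingCat.of k ⟶ R') (χ' : R' ⟶ CommRingCat.of k)
    (hχ' : σ' ≫ χ' = 𝟙 _) (hsurj : Surjective (specPt σ' χ' hχ').left)
    (h : X ⊗ specOver R' σ' ⟶ Z)
    (hh : (X ◁ specPt σ' χ' hχ') ≫ h = toUnit _ ≫ lift x₀ (specPt σ' χ' hχ') ≫ h) :
    h = snd X _ ≫ lift (toUnit _ ≫ x₀) (𝟙 _) ≫ h := by
  obtain ⟨_, ⟨Z₀, hZ₀, rfl⟩, hz, -⟩ := Z.left.isBasis_affineOpens.exists_subset_of_mem_open
    (Set.mem_univ ((lift x₀ (specPt σ' χ' hχ') ≫ h).left (pt0 k))) isOpen_univ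
  refine factor_of_range_subset X (specOver R' σ') Z x₀ h Z₀ hZ₀ ?_
  rintro _ ⟨q, rfl⟩
  have := surjective_whiskerLeft X (specPt σ' χ' hχ')
  obtain ⟨q', rfl⟩ := (X ◁ specPt σ' χ' hχ').left.surjective q
  rw [← Scheme.Hom.comp_apply, ← Over.comp_left, hh, Over.comp_left, Scheme.Hom.comp_apply]
  have hq : (toUnit (X ⊗ 𝟙_ (Over (Spec (CommRingCat.of k))))).left q' = pt0 k :=
    Subsingleton.elim (α := ↥(Spec (CommRingCat.of k))) _ _
  rw [hq]
  exact hz

lemma gammaSpec_map_apply {R R' : CommRingCat.{u}} (f : R ⟶ R') (r : R) :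
    (Spec.map f).appTop.hom ((Scheme.ΓSpecIso R).inv.hom r) =
      (Scheme.ΓSpecIso R').inv.hom (f.hom r) := by
  have := congrArg (fun φ => φ.hom r) (Scheme.ΓSpecIso_inv_naturality f)
  exact this.symm

lemma gammaSpec_inv_injective (R : CommRingCat.{u}) :
    Function.Injective (Scheme.ΓSpecIso R).inv.hom :=
  ((ConcreteCategory.isIso_iff_bijective (Scheme.ΓSpecIso R).inv).1 inferInstance).1

lemma gammaSpec_inv_surjective (R : CommRingCat.{u}) :
    Function.Surjective (Scheme.ΓSpecIso R).inv.hom :=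
  ((ConcreteCategory.isIso_iff_bijective (Scheme.ΓSpecIso R).inv).1 inferInstance).2

set_option maxHeartbeats 1600000 in
/-- the affine step: two morphisms from `U × Spec R` agreeing on all `U × Spec R/Iⁿ⁺¹` agree on
`U × D(s)` when `s` kills `⋂ Iⁿ⁺¹` -/
theorem affine_step (U Z : Over (Spec (CommRingCat.of k))) [IsAffine U.left] [IsSeparated Z.hom]
    (R : CommRingCat.{u}) (σ : CommRingCat.of k ⟶ R) (I : Ideal R) (s : R)
    (hs : ∀ r, (∀ n : ℕ, r ∈ I ^ (n + 1)) → s * r = 0)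
    (g₁ g₂ : U ⊗ specOver R σ ⟶ Z)
    (hn : ∀ n : ℕ,
      (U ◁ specOverHom σ (CommRingCat.ofHom (Ideal.Quotient.mk (I ^ (n + 1))))) ≫ g₁ =
      (U ◁ specOverHom σ (CommRingCat.ofHom (Ideal.Quotient.mk (I ^ (n + 1))))) ≫ g₂) :
    (U ◁ specOverHom σ (CommRingCat.ofHom (algebraMap R (Localization.Away s)))) ≫ g₁ =
      (U ◁ specOverHom σ (CommRingCat.ofHom (algebraMap R (Localization.Away s)))) ≫ g₂ := by
  have hci : IsClosedImmersion (equalizer.ι g₁ g₂).left := isClosedImmersion_equalizer_ι_left g₁ g₂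
  have haff : IsAffine (U ⊗ specOver R σ).left :=
    inferInstanceAs (IsAffine (pullback U.hom (specOver R σ).hom))
  -- the thickenings factor through the equalizer
  have hl : ∀ n : ℕ, ∃ l, l ≫ equalizer.ι g₁ g₂ =
      U ◁ specOverHom σ (CommRingCat.ofHom (Ideal.Quotient.mk (I ^ (n + 1)))) :=
    fun n => ⟨equalizer.lift _ (hn n), equalizer.lift_ι _ _⟩
  choose l hl using hl
  have hker : ∀ z, (equalizer.ι g₁ g₂).left.appTop.hom z = 0 → ∀ n : ℕ,
      (U ◁ specOverHom σ (CommRingCat.ofHom (Ideal.Quotient.mk (I ^ (n + 1))))).left.appTop.hom z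
        = 0 := by
    intro z hz n
    rw [← hl n, Over.comp_left, Scheme.Hom.comp_appTop, CommRingCat.comp_apply, hz, map_zero]
  -- the element `s` on `Spec R`
  obtain ⟨s', hs'def⟩ : ∃ s' : Γ((specOver R σ).left, ⊤), s' = (Scheme.ΓSpecIso R).inv.hom s :=
    ⟨_, rfl⟩
  have hs' : ∀ r' : Γ((specOver R σ).left, ⊤),
      (∀ n : ℕ, (specOverHom σ (CommRingCat.ofHom
        (Ideal.Quotient.mk (I ^ (n + 1))))).left.appTop.hom r' = 0) → s' * r' = 0 := by
    intro r' hr'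
    obtain ⟨r, rfl⟩ := gammaSpec_inv_surjective R r'
    have hr : ∀ n : ℕ, r ∈ I ^ (n + 1) := by
      intro n
      have h1 : (Spec.map (CommRingCat.ofHom (Ideal.Quotient.mk (I ^ (n + 1))))).appTop.hom
          ((Scheme.ΓSpecIso R).inv.hom r) = 0 := hr' n
      have h1' : (Scheme.ΓSpecIso (CommRingCat.of (R ⧸ I ^ (n + 1)))).inv.hom
          (Ideal.Quotient.mk (I ^ (n + 1)) r) = 0 :=
        (gammaSpec_map_apply (R := R) (CommRingCat.ofHom (Ideal.Quotient.mk (I ^ (n + 1))))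
          r).symm.trans h1
      have h3 := gammaSpec_inv_injective _ (h1'.trans (map_zero _).symm)
      exact Ideal.Quotient.eq_zero_iff_mem.1 h3
    have h4 : (Scheme.ΓSpecIso R).inv.hom s * (Scheme.ΓSpecIso R).inv.hom r = 0 := by
      rw [← map_mul, hs r hr, map_zero]
    rw [hs'def]
    exact h4
  have hKD : ∀ z, (equalizer.ι g₁ g₂).left.appTop.hom z = 0 →
      (snd U (specOver R σ)).left.appTop.hom s' * z = 0 := fun z hz =>
    mul_eq_zero_of_thickenings (isField_gammaSpec k) U (specOver R σ)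
      (fun n : ℕ => specOver (CommRingCat.of (R ⧸ I ^ (n + 1)))
        (σ ≫ CommRingCat.ofHom (Ideal.Quotient.mk (I ^ (n + 1)))))
      (fun n => specOverHom σ (CommRingCat.ofHom (Ideal.Quotient.mk (I ^ (n + 1))))) s' hs' z
      (hker z hz)
  -- `s` is a unit on `D(s)`
  obtain ⟨ιV, hιV⟩ : ∃ ιV, ιV = specOverHom σ
      (CommRingCat.ofHom (algebraMap R (Localization.Away s))) := ⟨_, rfl⟩
  rw [← hιV]
  have hunit : IsUnit ((U ◁ ιV).left.appTop.hom ((snd U (specOver R σ)).left.appTop.hom s')) := by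
    rw [← CommRingCat.comp_apply, ← Scheme.Hom.comp_appTop, ← Over.comp_left, whiskerLeft_snd,
      Over.comp_left, Scheme.Hom.comp_appTop, CommRingCat.comp_apply]
    apply IsUnit.map
    have h3 : IsUnit ((Spec.map (CommRingCat.ofHom (algebraMap R
        (Localization.Away s)))).appTop.hom ((Scheme.ΓSpecIso R).inv.hom s)) := by
      have h5 := gammaSpec_map_apply (R := R)
        (CommRingCat.ofHom (algebraMap R (Localization.Away s))) s
      have h6 : IsUnit ((Scheme.ΓSpecIso (CommRingCat.of (Localization.Away s))).inv.hom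
          (algebraMap R (Localization.Away s) s)) :=
        (IsLocalization.Away.algebraMap_isUnit s).map _
      exact h5 ▸ h6
    rw [hιV, hs'def]
    exact h3
  have hle : RingHom.ker (equalizer.ι g₁ g₂).left.appTop.hom ≤
      RingHom.ker (U ◁ ιV).left.appTop.hom := by
    intro z hz
    rw [RingHom.mem_ker] at hz ⊢
    have h1 := congrArg (U ◁ ιV).left.appTop.hom (hKD z hz)
    rw [map_mul, map_zero] at h1
    exact (hunit.mul_right_eq_zero).1 h1
  obtain ⟨m, hm⟩ := exists_lift_of_ker_le (equalizer.ι g₁ g₂).left (U ◁ ιV).left hle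
  apply Over.OverMorphism.ext
  rw [Over.comp_left, Over.comp_left, ← hm, Category.assoc, Category.assoc, ← Over.comp_left,
    ← Over.comp_left, equalizer.condition]

set_option maxHeartbeats 1600000 in
/-- ring-level form of the neighbourhood rigidity lemma -/
theorem rigid_aux (X Z : Over (Spec (CommRingCat.of k))) [CompactSpace X.left]
    [QuasiSeparatedSpace X.left] [IsIso X.hom.appTop] [IsSeparated Z.hom]
    (x₀ : 𝟙_ (Over (Spec (CommRingCat.of k))) ⟶ X)
    (R : CommRingCat.{u}) [IsNoetherianRing R] (σ : CommRingCat.of k ⟶ R)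
    (χ : R ⟶ CommRingCat.of k) (hχ : σ ≫ χ = 𝟙 _)
    (F : X ⊗ specOver R σ ⟶ Z)
    (hF : (X ◁ specPt σ χ hχ) ≫ F = toUnit _ ≫ lift x₀ (specPt σ χ hχ) ≫ F) :
    ∃ s : R, χ.hom s ≠ 0 ∧
      (X ◁ specOverHom σ (CommRingCat.ofHom (algebraMap R (Localization.Away s)))) ≫ F =
      (X ◁ specOverHom σ (CommRingCat.ofHom (algebraMap R (Localization.Away s)))) ≫
        snd X (specOver R σ) ≫ lift (toUnit (specOver R σ) ≫ x₀) (𝟙 _) ≫ F := by
  have hI : RingHom.ker χ.hom ≠ ⊤ := RingHom.ker_ne_top _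
  obtain ⟨s, hsI, hs⟩ := exists_not_mem_mul_eq_zero (RingHom.ker χ.hom) hI
  refine ⟨s, fun h0 => hsI (RingHom.mem_ker.2 h0), ?_⟩
  have hsurjχ : Function.Surjective χ.hom := fun a => ⟨σ.hom a, by
    have := congrArg (fun φ => φ.hom a) hχ
    exact this⟩
  obtain ⟨F', hF'⟩ : ∃ F' : X ⊗ specOver R σ ⟶ Z,
      F' = snd X (specOver R σ) ≫ lift (toUnit (specOver R σ) ≫ x₀) (𝟙 _) ≫ F := ⟨_, rfl⟩
  rw [← hF']
  -- Step 1: agreement on the thickenings
  have step1 : ∀ n : ℕ,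
      (X ◁ specOverHom σ (CommRingCat.ofHom (Ideal.Quotient.mk ((RingHom.ker χ.hom) ^ (n + 1)))))
        ≫ F =
      (X ◁ specOverHom σ (CommRingCat.ofHom (Ideal.Quotient.mk ((RingHom.ker χ.hom) ^ (n + 1)))))
        ≫ F' := by
    intro n
    have hlift : ∀ a ∈ (RingHom.ker χ.hom) ^ (n + 1), χ.hom a = 0 := fun a ha =>
      RingHom.mem_ker.1 (Ideal.pow_le_self (Nat.succ_ne_zero n) ha)
    obtain ⟨χn, hχndef⟩ : ∃ χn : CommRingCat.of (R ⧸ (RingHom.ker χ.hom) ^ (n + 1)) ⟶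
        CommRingCat.of k, χn = CommRingCat.ofHom (Ideal.Quotient.lift _ χ.hom hlift) := ⟨_, rfl⟩
    have hcomp : CommRingCat.ofHom (Ideal.Quotient.mk ((RingHom.ker χ.hom) ^ (n + 1))) ≫ χn
        = χ := by
      rw [hχndef]
      ext a
      simp
    have hχn : (σ ≫ CommRingCat.ofHom (Ideal.Quotient.mk ((RingHom.ker χ.hom) ^ (n + 1)))) ≫ χn
        = 𝟙 _ := by rw [Category.assoc, hcomp, hχ]
    have hsurj : Surjective (specPt (σ ≫ CommRingCat.ofHom
        (Ideal.Quotient.mk ((RingHom.ker χ.hom) ^ (n + 1)))) χn hχn).left := by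
      constructor
      subst hχndef
      exact comap_lift_surjective χ.hom hsurjχ n hlift
    have hpt : specPt (σ ≫ CommRingCat.ofHom
        (Ideal.Quotient.mk ((RingHom.ker χ.hom) ^ (n + 1)))) χn hχn ≫
        specOverHom σ (CommRingCat.ofHom (Ideal.Quotient.mk ((RingHom.ker χ.hom) ^ (n + 1)))) =
        specPt σ χ hχ := by
      rw [specPt_comp]
      exact specPt_congr σ hcomp _ _
    obtain ⟨τ, hτ⟩ : ∃ τ, τ = specOverHom σ
        (CommRingCat.ofHom (Ideal.Quotient.mk ((RingHom.ker χ.hom) ^ (n + 1)))) := ⟨_, rfl⟩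
    rw [← hτ] at hpt ⊢
    obtain ⟨cn, hcn⟩ : ∃ cn, cn = specPt (σ ≫ CommRingCat.ofHom
        (Ideal.Quotient.mk ((RingHom.ker χ.hom) ^ (n + 1)))) χn hχn := ⟨_, rfl⟩
    rw [← hcn] at hpt hsurj
    have key := thick_eq X Z x₀ _ χn hχn (hcn ▸ hsurj) ((X ◁ τ) ≫ F) (by
      rw [← hcn, ← whiskerLeft_comp_assoc, hpt, hF, ← hpt]
      congr 1
      rw [← Category.assoc (lift x₀ cn)]
      congr 1
      apply CartesianMonoidalCategory.hom_ext <;> simp)
    have hsw : lift (toUnit _ ≫ x₀) (𝟙 _) ≫ (X ◁ τ) = τ ≫ lift (toUnit _ ≫ x₀) (𝟙 _) := by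
      apply CartesianMonoidalCategory.hom_ext <;> simp
    calc (X ◁ τ) ≫ F = snd X _ ≫ lift (toUnit _ ≫ x₀) (𝟙 _) ≫ (X ◁ τ) ≫ F := key
      _ = snd X _ ≫ τ ≫ lift (toUnit _ ≫ x₀) (𝟙 _) ≫ F := by rw [reassoc_of% hsw]
      _ = (X ◁ τ) ≫ F' := by rw [hF', whiskerLeft_snd_assoc]
  -- Step 2: spreading out, affine-locally on `X`
  apply hom_ext_of_affineOpens
  intro U
  have hU : IsAffine (opn' X U.1).left := U.2
  rw [← whisker_exchange_assoc, ← whisker_exchange_assoc]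
  apply affine_step (opn' X U.1) Z R σ (RingHom.ker χ.hom) s hs
  intro n
  rw [whisker_exchange_assoc, whisker_exchange_assoc, step1 n]

end main

end Groth.Agent.H3.AntiAff
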