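import Mathlib
import Groth.Agent.Lib.Helper3.AntiAff.Rigid3

/-!
# Rigidity for products with an anti-affine factor, part 4: neighbourhood form
-/

set_option autoImplicit false

open CategoryTheory Limits AlgebraicGeometry MonoidalCategory CartesianMonoidalCategory
open TensorProduct

universe u

namespace Groth.Agent.H3.AntiAff

variable {k : Type u} [Field k]

set_option maxHeartbeats 1600000 in
/-- **Rigidity, neighbourhood form.** Let `X` be quasi-compact quasi-separated over a field `k`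
with `Γ(X) = k`, `Y` locally noetherian, `Z` separated, with rational points `x₀`, `y₀`. If
`f : X × Y ⟶ Z` is constant on `X × y₀`, then `f(x, y) = f(x₀, y)` on `X × V` for an affine open
neighbourhood `V` of `y₀`. -/
theorem rigid_nbhd (X Y Z : Over (Spec (CommRingCat.of k))) [CompactSpace X.left]
    [QuasiSeparatedSpace X.left] [IsIso X.hom.appTop] [IsLocallyNoetherian Y.left]
    [IsSeparated Z.hom] (x₀ : 𝟙_ (Over (Spec (CommRingCat.of k))) ⟶ X)
    (y₀ : 𝟙_ (Over (Spec (CommRingCat.of k))) ⟶ Y) (f : X ⊗ Y ⟶ Z)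
    (hf : (X ◁ y₀) ≫ f = toUnit _ ≫ lift x₀ y₀ ≫ f) :
    ∃ (V : Over (Spec (CommRingCat.of k))) (ι : V ⟶ Y)
      (v : 𝟙_ (Over (Spec (CommRingCat.of k))) ⟶ V),
      IsOpenImmersion ι.left ∧ IsAffine V.left ∧ v ≫ ι = y₀ ∧
      (X ◁ ι) ≫ f = (X ◁ ι) ≫ snd X Y ≫ lift (toUnit Y ≫ x₀) (𝟙 Y) ≫ f := by
  obtain ⟨_, ⟨V₀, hV₀, rfl⟩, hy, -⟩ := Y.left.isBasis_affineOpens.exists_subset_of_mem_open
    (Set.mem_univ (y₀.left (pt0 k))) isOpen_univ
  have hnoeth : IsNoetherianRing Γ(Y.left, V₀) :=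
    IsLocallyNoetherian.component_noetherian ⟨V₀, hV₀⟩
  obtain ⟨σ, hσ⟩ : ∃ σ : CommRingCat.of k ⟶ Γ(Y.left, V₀), Spec.map σ = hV₀.fromSpec ≫ Y.hom :=
    ⟨Spec.preimage (hV₀.fromSpec ≫ Y.hom), Spec.map_preimage _⟩
  have hr : Set.range y₀.left ⊆ Set.range hV₀.fromSpec := by
    rw [hV₀.range_fromSpec]
    rintro _ ⟨q, rfl⟩
    have : q = pt0 k := Subsingleton.elim (α := ↥(Spec (CommRingCat.of k))) _ _
    rw [this]
    exact hy
  obtain ⟨χ, hχ'⟩ : ∃ χ : Γ(Y.left, V₀) ⟶ CommRingCat.of k,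
      Spec.map χ ≫ hV₀.fromSpec = y₀.left :=
    ⟨Spec.preimage (IsOpenImmersion.lift hV₀.fromSpec y₀.left hr), by
      rw [Spec.map_preimage]; exact IsOpenImmersion.lift_fac _ _ _⟩
  have hχ : σ ≫ χ = 𝟙 _ := by
    apply Spec.map_injective
    rw [Spec.map_comp, hσ, reassoc_of% hχ', Spec.map_id]
    exact Over.w y₀
  obtain ⟨ιP, hιP⟩ : ∃ ιP : specOver Γ(Y.left, V₀) σ ⟶ Y, ιP.left = hV₀.fromSpec :=
    ⟨Over.homMk hV₀.fromSpec hσ.symm, rfl⟩
  have hpt : specPt σ χ hχ ≫ ιP = y₀ := by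
    apply Over.OverMorphism.ext
    rw [Over.comp_left, hιP]
    exact hχ'
  have hsw : ∀ {A B : Over (Spec (CommRingCat.of k))} (t : A ⟶ B),
      lift (toUnit _ ≫ x₀) (𝟙 _) ≫ (X ◁ t) = t ≫ lift (toUnit _ ≫ x₀) (𝟙 _) := by
    intro A B t
    apply CartesianMonoidalCategory.hom_ext <;> simp
  have hF : (X ◁ specPt σ χ hχ) ≫ (X ◁ ιP) ≫ f =
      toUnit _ ≫ lift x₀ (specPt σ χ hχ) ≫ (X ◁ ιP) ≫ f := by
    rw [← whiskerLeft_comp_assoc, hpt, hf, ← hpt]
    congr 1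
    rw [← Category.assoc (lift x₀ (specPt σ χ hχ))]
    congr 1
    apply CartesianMonoidalCategory.hom_ext <;> simp
  obtain ⟨s, hs0, hs⟩ := rigid_aux X Z x₀ Γ(Y.left, V₀) σ χ hχ ((X ◁ ιP) ≫ f) hF
  have hu : IsUnit (χ.hom s) := Ne.isUnit hs0
  obtain ⟨χs, hχs⟩ : ∃ χs : CommRingCat.of (Localization.Away s) ⟶ CommRingCat.of k,
      CommRingCat.ofHom (algebraMap Γ(Y.left, V₀) (Localization.Away s)) ≫ χs = χ := by
    refine ⟨CommRingCat.ofHom (IsLocalization.Away.lift s hu), ?_⟩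
    ext a
    simp
  have hχs' : (σ ≫ CommRingCat.ofHom (algebraMap Γ(Y.left, V₀) (Localization.Away s))) ≫ χs
      = 𝟙 _ := by rw [Category.assoc, hχs, hχ]
  refine ⟨specOver (CommRingCat.of (Localization.Away s))
      (σ ≫ CommRingCat.ofHom (algebraMap Γ(Y.left, V₀) (Localization.Away s))),
    specOverHom σ (CommRingCat.ofHom (algebraMap Γ(Y.left, V₀) (Localization.Away s))) ≫ ιP,
    specPt _ χs hχs', ?_, inferInstance, ?_, ?_⟩
  · rw [Over.comp_left]
    have : IsOpenImmersion (specOverHom σ (CommRingCat.ofHom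
        (algebraMap Γ(Y.left, V₀) (Localization.Away s)))).left :=
      inferInstanceAs (IsOpenImmersion (Spec.map (CommRingCat.ofHom
        (algebraMap Γ(Y.left, V₀) (Localization.Away s)))))
    have : IsOpenImmersion ιP.left := hιP ▸ hV₀.isOpenImmersion_fromSpec
    infer_instance
  · rw [← Category.assoc, specPt_comp, ← hpt]
    congr 1
    exact specPt_congr σ hχs _ _
  · rw [whiskerLeft_comp, Category.assoc, hs, reassoc_of% (hsw ιP)]
    simp only [Category.assoc, whiskerLeft_snd_assoc]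

end Groth.Agent.H3.AntiAff
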