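import Mathlib
import Groth.Agent.Lib.Helper3.AntiAff.GrpThm

/-!
# Anti-affine groups: pointed morphisms to groups are homomorphisms
-/

set_option autoImplicit false

open CategoryTheory Limits AlgebraicGeometry MonoidalCategory CartesianMonoidalCategory MonObj

universe u

namespace Groth.Agent.H3.AntiAff

variable {k : Type u} [Field k]

set_option maxHeartbeats 1600000 in
/-- a morphism of schemes from an anti-affine group to a group which preserves the unit is a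
homomorphism -/
theorem isMonHom_of_antiAffine (H G : Over (Spec (CommRingCat.of k))) [GrpObj H] [GrpObj G]
    [CompactSpace H.left] [IsIso H.hom.appTop] [LocallyOfFiniteType H.hom]
    (f : H ⟶ G) (hf : η[H] ≫ f = η[G]) : IsMonHom f := by
  have : IsSeparated G.hom := Groth.Agent.H3.DiscSep.main _ G
  have : IsLocallyNoetherian H.left := LocallyOfFiniteType.isLocallyNoetherian H.hom
  have : Nonempty H.left := ⟨η[H].left (pt0 k)⟩
  have hconn : ConnectedSpace H.left := connectedSpace_of_isIso_appTop H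
  obtain ⟨d, hd⟩ : ∃ d : H ⊗ H ⟶ G,
      d = (μ[H] ≫ f) * (snd H H ≫ f)⁻¹ * (fst H H ≫ f)⁻¹ := ⟨_, rfl⟩
  have hpt : ∀ {T : Over (Spec (CommRingCat.of k))} (x y : T ⟶ H),
      lift x y ≫ d = ((x * y) ≫ f) * (y ≫ f)⁻¹ * (x ≫ f)⁻¹ := by
    intro T x y
    rw [hd]
    simp only [comp_mul, GrpObj.comp_inv, ← Category.assoc, lift_fst, lift_snd, ← Hom.mul_def]
  have hη : (η[H] ≫ f : 𝟙_ _ ⟶ G) = 1 := by
    rw [hf, one_eq_one]
  have hη1 : (η[H] : 𝟙_ _ ⟶ H) = 1 := one_eq_one H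
  have h1f : ∀ {T : Over (Spec (CommRingCat.of k))}, (1 : T ⟶ H) ≫ f = 1 := by
    intro T
    rw [Hom.one_def, Category.assoc, hf, ← Hom.one_def]
  have hd0 : (H ◁ η[H]) ≫ d = toUnit _ ≫ lift η[H] η[H] ≫ d := by
    have h1 : (H ◁ η[H]) ≫ d = 1 := by
      have e : H ◁ η[H] = lift (fst H (𝟙_ _)) (snd H (𝟙_ _) ≫ η[H]) := by
        apply CartesianMonoidalCategory.hom_ext <;> simp
      have e2 : snd H (𝟙_ (Over (Spec (CommRingCat.of k)))) ≫ η[H] = 1 := by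
        rw [Hom.one_def]
        congr 1
        exact Subsingleton.elim _ _
      rw [e, hpt, e2, _root_.mul_one, h1f]
      group
    have h2 : lift η[H] η[H] ≫ d = 1 := by
      rw [hpt, hη1, _root_.mul_one, h1f]
      group
    rw [h1, h2, comp_one]
  obtain ⟨V, j, v, hopen, haff, hv, heq⟩ := rigid_nbhd H H G η[H] η[H] d hd0
  have h1 : lift (toUnit H ≫ η[H]) (𝟙 H) ≫ d = 1 := by
    rw [hpt, ← Hom.one_def, _root_.one_mul, h1f]
    group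
  have hV : (H ◁ j) ≫ d = 1 := by
    rw [heq, h1, comp_one, comp_one]
  have hmul : ∀ {T : Over (Spec (CommRingCat.of k))} (x : T ⟶ H) (y : T ⟶ V),
      (x * (y ≫ j)) ≫ f = (x ≫ f) * ((y ≫ j) ≫ f) := by
    intro T x y
    have h2 : lift x y ≫ (H ◁ j) ≫ d = 1 := by rw [hV, comp_one]
    have h3 : lift x y ≫ (H ◁ j) = lift x (y ≫ j) := by
      apply CartesianMonoidalCategory.hom_ext <;> simp
    rw [← Category.assoc, h3, hpt] at h2
    have h4 := mul_inv_eq_one.1 h2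
    rw [mul_inv_eq_iff_eq_mul] at h4
    exact h4
  have hepi := epi_whiskerLeft_mul H H V j v
  have hfin : d = 1 := by
    rw [← cancel_epi (H ◁ ((j ⊗ₘ j) ≫ μ[H])), comp_one]
    have h4 : H ◁ ((j ⊗ₘ j) ≫ μ[H]) = lift (fst H (V ⊗ V))
        (snd H (V ⊗ V) ≫ (j ⊗ₘ j) ≫ μ[H]) := by
      apply CartesianMonoidalCategory.hom_ext <;> simp
    rw [h4, hpt, Groth.Agent.H3.WeilExt.comp_tensor_mul]
    obtain ⟨x, hx⟩ : ∃ x : H ⊗ (V ⊗ V) ⟶ H, x = fst H (V ⊗ V) := ⟨_, rfl⟩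
    obtain ⟨y₁, hy₁⟩ : ∃ y₁ : H ⊗ (V ⊗ V) ⟶ V, y₁ = snd H (V ⊗ V) ≫ fst V V := ⟨_, rfl⟩
    obtain ⟨y₂, hy₂⟩ : ∃ y₂ : H ⊗ (V ⊗ V) ⟶ V, y₂ = snd H (V ⊗ V) ≫ snd V V := ⟨_, rfl⟩
    rw [← hx, ← hy₁, ← hy₂]
    have e1 : (x * ((y₁ ≫ j) * (y₂ ≫ j))) ≫ f =
        (x ≫ f) * ((y₁ ≫ j) ≫ f) * ((y₂ ≫ j) ≫ f) := by
      rw [← _root_.mul_assoc, hmul (x * (y₁ ≫ j)) y₂, hmul x y₁]
    have e2 : ((y₁ ≫ j) * (y₂ ≫ j)) ≫ f = ((y₁ ≫ j) ≫ f) * ((y₂ ≫ j) ≫ f) :=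
      hmul (y₁ ≫ j) y₂
    rw [e1, e2]
    group
  have hmain : μ[H] ≫ f = (f ⊗ₘ f) ≫ μ[G] := by
    have h5 := hfin
    rw [hd] at h5
    have h6 := mul_inv_eq_one.1 h5
    rw [mul_inv_eq_iff_eq_mul] at h6
    rw [h6, Hom.mul_def]
    congr 1
  exact Groth.Agent.H3.WeilExt.isMonHom_of_mul f hmain

end Groth.Agent.H3.AntiAff
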