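import Mathlib
import Groth.Agent.Lib.Helper3.AntiAff.Rigid4
import Groth.Agent.Lib.Helper3.AntiAff.Const
import Groth.Agent.Lib.Helper3.AntiAff.AABC
import Groth.Agent.Lib.Helper9.Misc.ORB3

/-!
# Rigidity for products with an anti-affine factor: connected second factor

Over an algebraically closed field `k`, for `X` of finite type with `Γ(X) = k`, `Y` connected locally
of finite type and `Z` separated, a morphism `f : X × Y ⟶ Z` that is constant on `X × y₀` factors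
through the second projection.
-/

set_option autoImplicit false

open CategoryTheory Limits AlgebraicGeometry MonoidalCategory CartesianMonoidalCategory

universe u

namespace Groth.Agent.H3.AntiAff

/-- a field-valued point whose image lies in a closed subscheme factors through it -/
theorem exists_lift_of_range_subset {K : Type u} [Field K] {E Y : Scheme.{u}} (e : E ⟶ Y)
    [IsClosedImmersion e] (y : Spec (CommRingCat.of K) ⟶ Y) (h : Set.range y ⊆ Set.range e) :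
    ∃ w : Spec (CommRingCat.of K) ⟶ E, w ≫ e = y := by
  have hs : Surjective (pullback.fst y e) := by
    constructor
    intro p
    obtain ⟨q, hq⟩ := h ⟨p, rfl⟩
    obtain ⟨z, hz, -⟩ := Scheme.Pullback.exists_preimage_pullback p q hq.symm
    exact ⟨z, hz⟩
  have : IsIso (pullback.fst y e) := isIso_of_isClosedImmersion_of_surjective _
  exact ⟨inv (pullback.fst y e) ≫ pullback.snd y e, by
    rw [Category.assoc, ← pullback.condition, IsIso.inv_hom_id_assoc]⟩

/-- morphisms from `X × T` are determined on the `X × V`, for `V` ranging over an open cover of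
`T` -/
theorem hom_ext_of_openCover_right {S : Scheme.{u}} {X T Z : Over S} (α β : X ⊗ T ⟶ Z)
    (h : ∀ t : T.left, ∃ (V : Over S) (ι : V ⟶ T), IsOpenImmersion ι.left ∧
      t ∈ Set.range ι.left ∧ (X ◁ ι) ≫ α = (X ◁ ι) ≫ β) : α = β := by
  choose V ι h1 h2 h3 using h
  apply Over.OverMorphism.ext
  have hcov : TopologicalSpace.IsOpenCover
      (fun t : T.left => (snd X T).left ⁻¹ᵁ (ι t).left.opensRange) := by
    rw [TopologicalSpace.IsOpenCover, eq_top_iff]
    intro x _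
    exact TopologicalSpace.Opens.mem_iSup.mpr ⟨(snd X T).left x, h2 _⟩
  apply ((X ⊗ T).left.openCoverOfIsOpenCover _ hcov).hom_ext
  intro (t : T.left)
  rw [Scheme.openCoverOfIsOpenCover_f]
  have sq := (Groth.Agent.H3.GrpQuot.isPullback_whiskerLeft X (ι t)).map (Over.forget S)
  have sq' : IsPullback (X ◁ ι t).left (snd X (V t)).left (snd X T).left (ι t).left := sq
  have hr : Set.range (((snd X T).left ⁻¹ᵁ (ι t).left.opensRange).ι ≫ (snd X T).left) ⊆
      Set.range (ι t).left := by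
    rintro _ ⟨x, rfl⟩
    rw [Scheme.Hom.comp_apply]
    exact x.2
  obtain ⟨w, hw⟩ : ∃ w : ((snd X T).left ⁻¹ᵁ (ι t).left.opensRange : Scheme.{u}) ⟶
      (X ⊗ V t).left,
      w ≫ (X ◁ ι t).left = ((snd X T).left ⁻¹ᵁ (ι t).left.opensRange).ι :=
    ⟨sq'.lift _ (IsOpenImmersion.lift (ι t).left _ hr) (IsOpenImmersion.lift_fac _ _ _).symm,
      sq'.lift_fst _ _ _⟩
  have key : (X ◁ ι t).left ≫ α.left = (X ◁ ι t).left ≫ β.left := by
    rw [← Over.comp_left, ← Over.comp_left, h3 t]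
  change ((snd X T).left ⁻¹ᵁ (ι t).left.opensRange).ι ≫ α.left =
    ((snd X T).left ⁻¹ᵁ (ι t).left.opensRange).ι ≫ β.left
  rw [← hw, Category.assoc, Category.assoc, key]

variable {k : Type u} [Field k]

/-- a scheme over `k` with `Γ(X) = k` is nonempty -/
theorem nonempty_of_isIso_appTop (X : Over (Spec (CommRingCat.of k))) [IsIso X.hom.appTop] :
    Nonempty X.left := by
  by_contra hcon
  rw [not_nonempty_iff] at hcon
  have h1 : Subsingleton Γ(X.left, ⊤) := inferInstance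
  have h2 : Subsingleton Γ(Spec (CommRingCat.of k), ⊤) :=
    (asIso X.hom.appTop).commRingCatIsoToRingEquiv.toEquiv.subsingleton
  have h3 : Nontrivial Γ(Spec (CommRingCat.of k), ⊤) := (isField_gammaSpec k).nontrivial
  exact not_subsingleton _ h2

set_option maxHeartbeats 1600000 in
/-- **Rigidity** for a connected second factor locally of finite type over an algebraically closed
field. -/
theorem rigid_connected [IsAlgClosed k] (X Y Z : Over (Spec (CommRingCat.of k)))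
    [LocallyOfFiniteType X.hom] [CompactSpace X.left]
    [QuasiSeparatedSpace X.left] [IsIso X.hom.appTop] [LocallyOfFiniteType Y.hom]
    [PreconnectedSpace Y.left] [IsSeparated Z.hom]
    (x₀ : 𝟙_ (Over (Spec (CommRingCat.of k))) ⟶ X)
    (y₀ : 𝟙_ (Over (Spec (CommRingCat.of k))) ⟶ Y) (f : X ⊗ Y ⟶ Z)
    (hf : (X ◁ y₀) ≫ f = toUnit _ ≫ lift x₀ y₀ ≫ f) :
    f = snd X Y ≫ lift (toUnit Y ≫ x₀) (𝟙 Y) ≫ f := by
  have : IsLocallyNoetherian Y.left := LocallyOfFiniteType.isLocallyNoetherian Y.hom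
  obtain ⟨f', hf'⟩ : ∃ f' : X ⊗ Y ⟶ Z, f' = snd X Y ≫ lift (toUnit Y ≫ x₀) (𝟙 Y) ≫ f := ⟨_, rfl⟩
  rw [← hf']
  let Ω : Set Y.left := {y | ∃ (V : Over (Spec (CommRingCat.of k))) (ι : V ⟶ Y),
    IsOpenImmersion ι.left ∧ y ∈ Set.range ι.left ∧ (X ◁ ι) ≫ f = (X ◁ ι) ≫ f'}
  have hsw : ∀ {A B : Over (Spec (CommRingCat.of k))}
      (x : 𝟙_ (Over (Spec (CommRingCat.of k))) ⟶ X) (t : A ⟶ B),
      lift (toUnit _ ≫ x) (𝟙 _) ≫ (X ◁ t) = t ≫ lift (toUnit _ ≫ x) (𝟙 _) := by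
    intro A B x t
    apply CartesianMonoidalCategory.hom_ext <;> simp
  have hΩopen : IsOpen Ω := by
    rw [isOpen_iff_forall_mem_open]
    rintro y ⟨V, ι, h1, h2, h3⟩
    exact ⟨Set.range ι.left, fun y' hy' => ⟨V, ι, h1, hy', h3⟩,
      ι.left.isOpenEmbedding.isOpen_range, h2⟩
  have hQ : ∀ y₁ : 𝟙_ (Over (Spec (CommRingCat.of k))) ⟶ Y,
      (X ◁ y₁) ≫ f = toUnit _ ≫ lift x₀ y₁ ≫ f → y₁.left (pt0 k) ∈ Ω := by
    intro y₁ h
    obtain ⟨V, ι, v, hopen, -, hv, heq⟩ := rigid_nbhd X Y Z x₀ y₁ f h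
    refine ⟨V, ι, hopen, ⟨v.left (pt0 k), ?_⟩, ?_⟩
    · rw [← hv]; rfl
    · rw [hf']; exact heq
  have hP : ∀ y₁ : 𝟙_ (Over (Spec (CommRingCat.of k))) ⟶ Y, y₁.left (pt0 k) ∈ closure Ω →
      (X ◁ y₁) ≫ f = toUnit _ ≫ lift x₀ y₁ ≫ f := by
    intro y₁ hy₁
    have P1 : ∀ x₁ : 𝟙_ (Over (Spec (CommRingCat.of k))) ⟶ X,
        lift x₁ y₁ ≫ f = lift x₀ y₁ ≫ f := by
      intro x₁
      obtain ⟨u₁, hu₁⟩ : ∃ u₁ : Y ⟶ Z, u₁ = lift (toUnit Y ≫ x₁) (𝟙 Y) ≫ f := ⟨_, rfl⟩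
      obtain ⟨u₀, hu₀⟩ : ∃ u₀ : Y ⟶ Z, u₀ = lift (toUnit Y ≫ x₀) (𝟙 Y) ≫ f := ⟨_, rfl⟩
      have hsub : Ω ⊆ Set.range (equalizer.ι u₁ u₀).left := by
        rintro y ⟨V, ι, h1, h2, h3⟩
        have hι : ι ≫ u₁ = ι ≫ u₀ := by
          rw [hu₁, hu₀, ← reassoc_of% (hsw x₁ ι), h3, hf']
          simp
        have hfac : equalizer.lift ι hι ≫ equalizer.ι u₁ u₀ = ι := equalizer.lift_ι _ _
        obtain ⟨v, rfl⟩ := h2
        refine ⟨(equalizer.lift ι hι).left v, ?_⟩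
        rw [← Scheme.Hom.comp_apply, ← Over.comp_left, hfac]
      have hcl : closure Ω ⊆ Set.range (equalizer.ι u₁ u₀).left :=
        closure_minimal hsub (equalizer.ι u₁ u₀).left.isClosedEmbedding.isClosed_range
      have hr : Set.range y₁.left ⊆ Set.range (equalizer.ι u₁ u₀).left := by
        rintro _ ⟨q, rfl⟩
        have : q = pt0 k := Subsingleton.elim (α := ↥(Spec (CommRingCat.of k))) _ _
        rw [this]
        exact hcl hy₁
      obtain ⟨w, hw⟩ := exists_lift_of_range_subset (equalizer.ι u₁ u₀).left y₁.left hr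
      have hy : y₁ ≫ u₁ = y₁ ≫ u₀ := by
        apply Over.OverMorphism.ext
        rw [Over.comp_left, Over.comp_left, ← hw, Category.assoc, Category.assoc,
          ← Over.comp_left, ← Over.comp_left, equalizer.condition]
      have hl : ∀ x : 𝟙_ (Over (Spec (CommRingCat.of k))) ⟶ X,
          lift x y₁ = y₁ ≫ lift (toUnit Y ≫ x) (𝟙 Y) := by
        intro x
        apply CartesianMonoidalCategory.hom_ext <;> simp
      rw [hl x₁, hl x₀, Category.assoc, Category.assoc, ← hu₁, ← hu₀, hy]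
    obtain ⟨c, hc⟩ : ∃ c : X ⟶ Z, c = lift (𝟙 X) (toUnit X ≫ y₁) ≫ f := ⟨_, rfl⟩
    have P2 : ∀ x₁ : 𝟙_ (Over (Spec (CommRingCat.of k))) ⟶ X, x₁ ≫ c = lift x₀ y₁ ≫ f := by
      intro x₁
      rw [← P1 x₁, hc, ← Category.assoc]
      congr 1
      apply CartesianMonoidalCategory.hom_ext <;> simp
    obtain ⟨_, ⟨Z₀, hZ₀, rfl⟩, hz, -⟩ := Z.left.isBasis_affineOpens.exists_subset_of_mem_open
      (Set.mem_univ ((lift x₀ y₁ ≫ f).left (pt0 k))) isOpen_univ
    have hrange : Set.range c.left ⊆ (Z₀ : Set Z.left) := by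
      by_contra hcon
      rw [Set.not_subset] at hcon
      obtain ⟨_, ⟨x, rfl⟩, hx⟩ := hcon
      have hcl : IsClosed (c.left ⁻¹' ((Z₀ : Set Z.left)ᶜ)) :=
        (Z₀.isOpen.isClosed_compl).preimage c.left.continuous
      obtain ⟨x₁, hx₁⟩ := Groth.Agent.H9.ORB3.exists_point_of_closed k X _ hcl ⟨x, hx⟩
      have h1 : c.left (x₁.left (pt0 k)) ∉ (Z₀ : Set Z.left) := hx₁ ⟨pt0 k, rfl⟩
      apply h1
      have h2 : c.left (x₁.left (pt0 k)) = (x₁ ≫ c).left (pt0 k) := rfl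
      rw [h2, P2 x₁]
      exact hz
    have hr' : Set.range c.left ⊆ Set.range (Scheme.Opens.ι Z₀) := by
      rw [Scheme.Opens.range_ι]; exact hrange
    have : IsAffine (opn' Z Z₀).left := hZ₀
    obtain ⟨c₀, hc₀⟩ : ∃ c₀ : X ⟶ opn' Z Z₀, c₀ ≫ opnι' Z Z₀ = c := by
      refine ⟨Over.homMk (IsOpenImmersion.lift (Scheme.Opens.ι Z₀) c.left hr') ?_, ?_⟩
      · change IsOpenImmersion.lift (Scheme.Opens.ι Z₀) c.left hr' ≫ (Scheme.Opens.ι Z₀) ≫ Z.hom = X.hom
        rw [IsOpenImmersion.lift_fac_assoc]; exact Over.w c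
      · apply Over.OverMorphism.ext
        exact IsOpenImmersion.lift_fac _ _ _
    have hconst : c = toUnit X ≫ x₀ ≫ c := by
      have h0 := const_of_affine_target X (opn' Z Z₀) x₀ c₀
      calc c = c₀ ≫ opnι' Z Z₀ := hc₀.symm
        _ = (toUnit X ≫ x₀ ≫ c₀) ≫ opnι' Z Z₀ := by rw [← h0]
        _ = toUnit X ≫ x₀ ≫ c := by rw [Category.assoc, Category.assoc, hc₀]
    have h5 : X ◁ y₁ = fst X _ ≫ lift (𝟙 X) (toUnit X ≫ y₁) := by
      apply CartesianMonoidalCategory.hom_ext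
      · simp
      · simp only [whiskerLeft_snd, Category.assoc, lift_snd, comp_toUnit_assoc]
        congr 1
        exact toUnit_unique _ _
    have h6 : x₀ ≫ lift (𝟙 X) (toUnit X ≫ y₁) = lift x₀ y₁ := by
      apply CartesianMonoidalCategory.hom_ext <;> simp
    rw [h5, Category.assoc, ← hc, hconst, hc, reassoc_of% h6, comp_toUnit_assoc]
  have hΩclosed : IsClosed Ω := by
    rw [← closure_subset_iff_isClosed]
    by_contra hcon
    rw [Set.not_subset] at hcon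
    obtain ⟨a, ha1, ha2⟩ := hcon
    have hFc : IsClosed (closure Ω ∩ Ωᶜ) := isClosed_closure.inter hΩopen.isClosed_compl
    obtain ⟨y₁, hy₁⟩ := Groth.Agent.H9.ORB3.exists_point_of_closed k Y _ hFc ⟨a, ha1, ha2⟩
    have hmem := hy₁ ⟨pt0 k, rfl⟩
    exact hmem.2 (hQ y₁ (hP y₁ hmem.1))
  have hne : Ω.Nonempty := ⟨_, hQ y₀ hf⟩
  have huniv : Ω = Set.univ := IsClopen.eq_univ ⟨hΩclosed, hΩopen⟩ hne
  apply hom_ext_of_openCover_right
  intro t
  have ht : t ∈ Ω := huniv ▸ Set.mem_univ t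
  obtain ⟨V, ι, h1, h2, h3⟩ := ht
  exact ⟨V, ι, h1, h2, h3⟩

/-- **Rigidity**, existence and uniqueness form. -/
theorem rigid_connected_existsUnique [IsAlgClosed k] (X Y Z : Over (Spec (CommRingCat.of k)))
    [LocallyOfFiniteType X.hom] [QuasiCompact X.hom] [IsIso X.hom.appTop]
    [LocallyOfFiniteType Y.hom] [PreconnectedSpace Y.left] [IsSeparated Z.hom]
    (f : X ⊗ Y ⟶ Z) (y₀ : 𝟙_ (Over (Spec (CommRingCat.of k))) ⟶ Y)
    (z₀ : 𝟙_ (Over (Spec (CommRingCat.of k))) ⟶ Z)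
    (hf : (X ◁ y₀) ≫ f = toUnit _ ≫ z₀) :
    ∃! g : Y ⟶ Z, f = snd X Y ≫ g := by
  have : CompactSpace X.left := QuasiCompact.compactSpace_of_compactSpace X.hom
  have : IsLocallyNoetherian X.left := LocallyOfFiniteType.isLocallyNoetherian X.hom
  have : QuasiSeparatedSpace X.left := inferInstance
  have hXne : Nonempty X.left := nonempty_of_isIso_appTop X
  obtain ⟨x₀, -⟩ := Groth.Agent.H9.ORB3.exists_point_of_closed k X Set.univ isClosed_univ
    Set.univ_nonempty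
  have hz : lift x₀ y₀ ≫ f = z₀ := by
    have h1 : lift x₀ y₀ = lift x₀ (𝟙 _) ≫ (X ◁ y₀) := by
      apply CartesianMonoidalCategory.hom_ext <;> simp
    rw [h1, Category.assoc, hf]
    simp
  refine ⟨lift (toUnit Y ≫ x₀) (𝟙 Y) ≫ f, ?_, ?_⟩
  · exact rigid_connected X Y Z x₀ y₀ f (by rw [hf, hz])
  · intro g hg
    rw [hg]
    simp

end Groth.Agent.H3.AntiAff
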