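import Mathlib
import Groth.Agent.Lib.Helper3.AntiAff.RigidConn
import Groth.Agent.Lib.Helper3.AntiAff.GrpThm2

/-!
# Morphisms from `G × S` to a group, `G` anti-affine: `f(g, s) = φ(s) ψ(g)`
-/

set_option autoImplicit false

open CategoryTheory Limits AlgebraicGeometry MonoidalCategory CartesianMonoidalCategory MonObj

universe u

namespace Groth.Agent.H3.AntiAff

variable {k : Type u} [Field k]

set_option maxHeartbeats 1600000 in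
/-- Over an algebraically closed field, for an anti-affine group `G`, a group `H` and a connected
`S` locally of finite type, every morphism `f : G × S ⟶ H` is uniquely of the form
`f(g, s) = φ(s) ψ(g)` with `ψ` a homomorphism. -/
theorem decomp_of_antiAffine [IsAlgClosed k] (G H S : Over (Spec (CommRingCat.of k)))
    [GrpObj G] [GrpObj H] [LocallyOfFiniteType G.hom] [QuasiCompact G.hom] [IsIso G.hom.appTop]
    [LocallyOfFiniteType S.hom] [ConnectedSpace S.left] (f : G ⊗ S ⟶ H) :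
    ∃ (φ : S ⟶ H) (ψ : G ⟶ H), IsMonHom ψ ∧ f = (snd G S ≫ φ) * (fst G S ≫ ψ) ∧
      ∀ (φ' : S ⟶ H) (ψ' : G ⟶ H), IsMonHom ψ' → f = (snd G S ≫ φ') * (fst G S ≫ ψ') →
        φ' = φ ∧ ψ' = ψ := by
  have : IsSeparated H.hom := Groth.Agent.H3.DiscSep.main _ H
  have : CompactSpace G.left := QuasiCompact.compactSpace_of_compactSpace G.hom
  obtain ⟨s₀, -⟩ := Groth.Agent.H9.ORB3.exists_point_of_closed k S Set.univ isClosed_univ
    Set.univ_nonempty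
  obtain ⟨σ, hσ⟩ : ∃ σ : S ⟶ G ⊗ S, σ = lift (toUnit S ≫ η[G]) (𝟙 S) := ⟨_, rfl⟩
  have hσ1 : σ ≫ snd G S = 𝟙 S := by rw [hσ]; simp
  have hσ2 : σ ≫ fst G S = toUnit S ≫ η[G] := by rw [hσ]; simp
  obtain ⟨τ, hτ⟩ : ∃ τ : G ⟶ G ⊗ S, τ = lift (𝟙 G) (toUnit G ≫ s₀) := ⟨_, rfl⟩
  have hτ1 : τ ≫ fst G S = 𝟙 G := by rw [hτ]; simp
  obtain ⟨φ, hφ⟩ : ∃ φ : S ⟶ H, φ = σ ≫ f := ⟨_, rfl⟩
  obtain ⟨F, hF⟩ : ∃ F : G ⊗ S ⟶ H, F = (snd G S ≫ φ)⁻¹ * f := ⟨_, rfl⟩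
  obtain ⟨ψ, hψ⟩ : ∃ ψ : G ⟶ H, ψ = τ ≫ F := ⟨_, rfl⟩
  obtain ⟨Φ, hΦ⟩ : ∃ Φ : G ⊗ S ⟶ H, Φ = F * (fst G S ≫ ψ)⁻¹ := ⟨_, rfl⟩
  have h5 : G ◁ s₀ = fst G _ ≫ τ := by
    rw [hτ]
    apply CartesianMonoidalCategory.hom_ext
    · simp
    · simp only [whiskerLeft_snd, Category.assoc, lift_snd, comp_toUnit_assoc]
      congr 1
      exact toUnit_unique _ _
  have hΦ0 : (G ◁ s₀) ≫ Φ = toUnit _ ≫ η[H] := by
    have h0 : (G ◁ s₀) ≫ fst G S ≫ ψ = (G ◁ s₀) ≫ F := by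
      rw [whiskerLeft_fst_assoc, hψ, h5, Category.assoc]
    rw [hΦ, comp_mul, GrpObj.comp_inv, h0, _root_.mul_inv_cancel, Hom.one_def]
  obtain ⟨g, hg, -⟩ := rigid_connected_existsUnique G S H Φ s₀ η[H] hΦ0
  have hσF : σ ≫ F = 1 := by
    rw [hF, comp_mul, GrpObj.comp_inv, reassoc_of% hσ1, ← hφ, _root_.inv_mul_cancel]
  have hηψ : η[G] ≫ ψ = η[H] := by
    have h1 : η[G] ≫ τ = s₀ ≫ σ := by
      rw [hτ, hσ]
      apply CartesianMonoidalCategory.hom_ext <;> simp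
    rw [hψ, reassoc_of% h1, hσF, comp_one, one_eq_one]
  have hg1 : g = 1 := by
    have h1 : σ ≫ Φ = g := by rw [hg, reassoc_of% hσ1]
    rw [← h1, hΦ, comp_mul, GrpObj.comp_inv, hσF, reassoc_of% hσ2, hηψ, ← Hom.one_def,
      _root_.inv_one, _root_.mul_one]
  have hΦ1 : Φ = 1 := by rw [hg, hg1, comp_one]
  have hFψ : F = fst G S ≫ ψ := by
    rw [hΦ] at hΦ1
    exact _root_.mul_inv_eq_one.mp hΦ1
  have hf : f = (snd G S ≫ φ) * (fst G S ≫ ψ) := by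
    rw [← hFψ, hF, _root_.mul_inv_cancel_left]
  have hmon : IsMonHom ψ := isMonHom_of_antiAffine G H ψ hηψ
  refine ⟨φ, ψ, hmon, hf, ?_⟩
  intro φ' ψ' hψ' hf'
  have h1 : φ' = φ := by
    rw [hφ, hf', comp_mul, reassoc_of% hσ1, reassoc_of% hσ2, IsMonHom.one_hom, ← Hom.one_def,
      _root_.mul_one]
  refine ⟨h1, ?_⟩
  rw [hψ, hF, hf', h1, _root_.inv_mul_cancel_left, reassoc_of% hτ1]

end Groth.Agent.H3.AntiAff
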