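import Mathlib
import Groth.Agent.Lib.Helper3.AntiAff.Decomp
import Groth.Agent.Lib.Helper9.Misc.GZB2
import Groth.Agent.Lib.Helper1.SmoothGeom

/-!
# Proper integral schemes over an algebraically closed field are anti-affine; automorphisms of
`A × S` over `S` for an abelian variety `A`
-/

set_option autoImplicit false

open CategoryTheory Limits AlgebraicGeometry MonoidalCategory CartesianMonoidalCategory MonObj

universe u

namespace Groth.Agent.H3.AntiAff

variable {k : Type u} [Field k]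

/-- an integral scheme universally closed over an algebraically closed field has only constant
global functions -/
theorem isIso_appTop_of_universallyClosed [IsAlgClosed k] (X : Over (Spec (CommRingCat.of k)))
    [UniversallyClosed X.hom] [IsIntegral X.left] : IsIso X.hom.appTop := by
  rw [← bijective_iff_isIso]
  have hint : ((Scheme.ΓSpecIso (CommRingCat.of k)).inv ≫ X.hom.appTop).hom.IsIntegral := by
    apply RingHom.isIntegral_respectsIso.2
      (e := (Scheme.ΓSpecIso (CommRingCat.of k)).symm.commRingCatIsoToRingEquiv)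
    exact isIntegral_appTop_of_universallyClosed X.hom
  algebraize [((Scheme.ΓSpecIso (CommRingCat.of k)).inv ≫ X.hom.appTop).hom]
  exact IsAlgClosed.algebraMap_bijective_of_isIntegral (k := k) (K := Γ(X.left, ⊤))

/-- a smooth connected group scheme over a field is integral -/
theorem isIntegral_of_smooth_connected_grp (A : Over (Spec (CommRingCat.of k))) [GrpObj A]
    [Smooth A.hom] [ConnectedSpace A.left] : IsIntegral A.left := by
  have : IsReduced A.left := Groth.Agent.H1.SmoothGeom.isReduced_of_smooth_field k A.hom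
  have : IrreducibleSpace A.left := Groth.Agent.H9.GZB.S0348_main A
  exact isIntegral_of_irreducibleSpace_of_isReduced A.left

/-- abelian varieties over an algebraically closed field are anti-affine -/
theorem isIso_appTop_of_abelianVariety [IsAlgClosed k] (A : Over (Spec (CommRingCat.of k)))
    [GrpObj A] [IsProper A.hom] [Smooth A.hom] [ConnectedSpace A.left] : IsIso A.hom.appTop := by
  have := isIntegral_of_smooth_connected_grp A
  exact isIso_appTop_of_universallyClosed A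

/-- if `F(a, s) = (φ(s) ψ(a), s)` and `F'(a, s) = (φ'(s) ψ'(a), s)` with `F ≫ F' = 𝟙`, then
`ψ ≫ ψ' = 𝟙` -/
theorem comp_eq_id_of_decomp (A S : Over (Spec (CommRingCat.of k))) [GrpObj A]
    (s₀ : 𝟙_ (Over (Spec (CommRingCat.of k))) ⟶ S) (F F' : A ⊗ S ⟶ A ⊗ S)
    (hF : F ≫ snd A S = snd A S) (hcomp : F ≫ F' = 𝟙 _) (φ φ' : S ⟶ A) (ψ ψ' : A ⟶ A)
    [IsMonHom ψ] [IsMonHom ψ'] (h1 : F ≫ fst A S = (snd A S ≫ φ) * (fst A S ≫ ψ))
    (h2 : F' ≫ fst A S = (snd A S ≫ φ') * (fst A S ≫ ψ')) : ψ ≫ ψ' = 𝟙 A := by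
  obtain ⟨τ, hτ⟩ : ∃ τ : A ⟶ A ⊗ S, τ = lift (𝟙 A) (toUnit A ≫ s₀) := ⟨_, rfl⟩
  have hτ1 : τ ≫ fst A S = 𝟙 A := by rw [hτ]; simp
  have hτ2 : τ ≫ snd A S = toUnit A ≫ s₀ := by rw [hτ]; simp
  have e1 : τ ≫ F = lift ((toUnit A ≫ s₀ ≫ φ) * ψ) (toUnit A ≫ s₀) := by
    apply CartesianMonoidalCategory.hom_ext
    · rw [Category.assoc, h1, comp_mul, reassoc_of% hτ2, reassoc_of% hτ1, lift_fst]
    · rw [Category.assoc, hF, hτ2, lift_snd]
  obtain ⟨x, hx⟩ : ∃ x : 𝟙_ (Over (Spec (CommRingCat.of k))) ⟶ A, x = s₀ ≫ φ' := ⟨_, rfl⟩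
  obtain ⟨y, hy⟩ : ∃ y : 𝟙_ (Over (Spec (CommRingCat.of k))) ⟶ A, y = s₀ ≫ φ ≫ ψ' := ⟨_, rfl⟩
  have e2 : 𝟙 A = (toUnit A ≫ x) * ((toUnit A ≫ y) * (ψ ≫ ψ')) := by
    calc 𝟙 A = τ ≫ (F ≫ F') ≫ fst A S := by rw [hcomp, Category.id_comp, hτ1]
      _ = (τ ≫ F) ≫ F' ≫ fst A S := by simp only [Category.assoc]
      _ = (toUnit A ≫ x) * ((toUnit A ≫ y) * (ψ ≫ ψ')) := by
        rw [e1, h2, comp_mul, lift_snd_assoc, lift_fst_assoc, mul_comp, hx, hy]
        simp only [Category.assoc]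
  have hη1 : η[A] ≫ toUnit A = 𝟙 _ := toUnit_unique _ _
  have e3 : x * y = 1 := by
    have h3 := congrArg (fun t => η[A] ≫ t) e2
    simp only [Category.comp_id, comp_mul, reassoc_of% hη1, IsMonHom.one_hom] at h3
    rw [one_eq_one, _root_.mul_one] at h3
    exact h3.symm
  have e4 : (toUnit A ≫ x) * (toUnit A ≫ y) = 1 := by
    rw [← comp_mul, e3, comp_one]
  rw [← _root_.mul_assoc, e4, _root_.one_mul] at e2
  exact e2.symm

set_option maxHeartbeats 800000 in
/-- automorphisms of `A × S` over a connected `S`, `A` an anti-affine group -/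
theorem aut_decomp [IsAlgClosed k] (A S : Over (Spec (CommRingCat.of k))) [GrpObj A]
    [LocallyOfFiniteType A.hom] [QuasiCompact A.hom] [IsIso A.hom.appTop]
    [LocallyOfFiniteType S.hom] [ConnectedSpace S.left]
    (f : A ⊗ S ≅ A ⊗ S) (hf : f.hom ≫ snd A S = snd A S) :
    ∃ (g : S ⟶ A) (h : A ⟶ A), IsMonHom h ∧ IsIso h ∧
      f.hom ≫ fst A S = (snd A S ≫ g) * (fst A S ≫ h) ∧
      ∀ (g' : S ⟶ A) (h' : A ⟶ A), IsMonHom h' →
        f.hom ≫ fst A S = (snd A S ≫ g') * (fst A S ≫ h') → g' = g ∧ h' = h := by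
  obtain ⟨s₀, -⟩ := Groth.Agent.H9.ORB3.exists_point_of_closed k S Set.univ isClosed_univ
    Set.univ_nonempty
  obtain ⟨φ, ψ, hψ, h1, huniq⟩ := decomp_of_antiAffine A A S (f.hom ≫ fst A S)
  obtain ⟨φ', ψ', hψ', h2, -⟩ := decomp_of_antiAffine A A S (f.inv ≫ fst A S)
  have hf' : f.inv ≫ snd A S = snd A S := by
    calc f.inv ≫ snd A S = f.inv ≫ f.hom ≫ snd A S := by rw [hf]
      _ = snd A S := by rw [Iso.inv_hom_id_assoc]
  have c1 : ψ ≫ ψ' = 𝟙 A :=
    comp_eq_id_of_decomp A S s₀ f.hom f.inv hf f.hom_inv_id φ φ' ψ ψ' h1 h2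
  have c2 : ψ' ≫ ψ = 𝟙 A :=
    comp_eq_id_of_decomp A S s₀ f.inv f.hom hf' f.inv_hom_id φ' φ ψ' ψ h2 h1
  exact ⟨φ, ψ, hψ, ⟨ψ', c1, c2⟩, h1, huniq⟩

end Groth.Agent.H3.AntiAff
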