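import Mathlib
import Groth.Agent.Lib.Helper3.AntiAff.Rigid4

/-!
# Rigidity for products with an anti-affine factor: integral second factor
-/

set_option autoImplicit false

open CategoryTheory Limits AlgebraicGeometry MonoidalCategory CartesianMonoidalCategory

universe u

namespace Groth.Agent.H3.AntiAff

/-- Two morphisms over `B` into a separated `B`-scheme agreeing after composition with a
scheme-theoretically dominant morphism are equal. -/
theorem sep_ext_dom {B : Scheme.{u}} {D Z Y : Over B} [IsSeparated Y.hom] (j : D ⟶ Z)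
    [IsSchemeTheoreticallyDominant j.left] (a b : Z ⟶ Y) (h : j ≫ a = j ≫ b) : a = b := by
  let l : D ⟶ equalizer a b := equalizer.lift j h
  have hl : l ≫ equalizer.ι a b = j := equalizer.lift_ι _ _
  have hl' : l.left ≫ (equalizer.ι a b).left = j.left := congrArg (fun m => m.left) hl
  have hker : (equalizer.ι a b).left.ker = ⊥ := by
    rw [← le_bot_iff]
    refine (Scheme.Hom.le_ker_comp l.left (equalizer.ι a b).left).trans ?_
    rw [hl', Scheme.Hom.ker_eq_bot]
  have hiso : IsIso (equalizer.ι a b).left := IsClosedImmersion.isIso_iff_ker_eq_bot.mpr hker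
  have : IsIso ((Over.forget B).map (equalizer.ι a b)) := hiso
  have : IsIso (equalizer.ι a b) := isIso_of_reflects_iso _ (Over.forget B)
  rw [← cancel_epi (equalizer.ι a b)]
  exact equalizer.condition a b

variable {k : Type u} [Field k]

/-- **Rigidity** for an integral locally noetherian second factor. -/
theorem rigid_integral (X Y Z : Over (Spec (CommRingCat.of k))) [CompactSpace X.left]
    [QuasiSeparatedSpace X.left] [IsIso X.hom.appTop] [IsLocallyNoetherian Y.left]
    [IrreducibleSpace ↥Y.left] [IsReduced Y.left]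
    [IsSeparated Z.hom] (x₀ : 𝟙_ (Over (Spec (CommRingCat.of k))) ⟶ X)
    (y₀ : 𝟙_ (Over (Spec (CommRingCat.of k))) ⟶ Y) (f : X ⊗ Y ⟶ Z)
    (hf : (X ◁ y₀) ≫ f = toUnit _ ≫ lift x₀ y₀ ≫ f) :
    f = snd X Y ≫ lift (toUnit Y ≫ x₀) (𝟙 Y) ≫ f := by
  obtain ⟨V, ι, v, hopen, haff, hv, heq⟩ := rigid_nbhd X Y Z x₀ y₀ f hf
  have hdom : IsDominant ι.left := by
    constructor
    have hne : (Set.range ι.left).Nonempty := ⟨_, ⟨v.left (pt0 k), rfl⟩⟩
    exact (ι.left.isOpenEmbedding.isOpen_range.dense hne)
  have hsd : IsSchemeTheoreticallyDominant ι.left := .of_isDominant _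
  have hqc : QuasiCompact ι.left := inferInstance
  have sq := (Groth.Agent.H3.GrpQuot.isPullback_whiskerLeft X ι).map (Over.forget _)
  have sq' : IsPullback (X ◁ ι).left (snd X V).left (snd X Y).left ι.left := sq
  have hflat : Flat (snd X Y).left := by
    rw [Over.snd_left]; infer_instance
  have : IsSchemeTheoreticallyDominant (X ◁ ι).left :=
    IsSchemeTheoreticallyDominant.of_isPullback sq'.flip
  exact sep_ext_dom (X ◁ ι) _ _ heq

end Groth.Agent.H3.AntiAff
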