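import Mathlib
import Groth.Agent.Lib.Helper3.AntiAff.RigidInt
import Groth.Agent.Lib.Helper3.AntiAff.RigidConn
import Groth.Agent.Lib.Helper3.AntiAff.AffKerProper
import Groth.Agent.Lib.Helper3.AntiAff.AffKer
import Groth.Agent.Lib.Helper8.RedImm

/-!
# Fibres of a morphism from an abelian variety: translation of connected components
-/

set_option autoImplicit false

open CategoryTheory Limits AlgebraicGeometry MonoidalCategory CartesianMonoidalCategory MonObj
  TopologicalSpace

universe u

namespace Groth.Agent.H3.AntiAff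

/-- connected components of a closed subset are closed -/
theorem isClosed_connectedComponentIn {α : Type*} [TopologicalSpace α] {F : Set α}
    (hF : IsClosed F) (x : α) : IsClosed (connectedComponentIn F x) := by
  by_cases hx : x ∈ F
  · rw [connectedComponentIn_eq_image hx]
    exact hF.isClosedMap_subtype_val _ isClosed_connectedComponent
  · rw [connectedComponentIn_eq_empty hx]
    exact isClosed_empty

variable {k : Type u} [Field k]

set_option maxHeartbeats 800000 in
/-- a reduced connected scheme, universally closed over a field, with a rational point has only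
constant global functions -/
theorem isIso_appTop_of_reduced_connected (F : Over (Spec (CommRingCat.of k)))
    [UniversallyClosed F.hom] [IsReduced F.left] [ConnectedSpace F.left]
    (a₀ : 𝟙_ (Over (Spec (CommRingCat.of k))) ⟶ F) : IsIso F.hom.appTop := by
  rw [← bijective_iff_isIso]
  have hint : ((Scheme.ΓSpecIso (CommRingCat.of k)).inv ≫ F.hom.appTop).hom.IsIntegral := by
    apply RingHom.isIntegral_respectsIso.2
      (e := (Scheme.ΓSpecIso (CommRingCat.of k)).symm.commRingCatIsoToRingEquiv)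
    exact isIntegral_appTop_of_universallyClosed F.hom
  have hsec : F.hom.appTop ≫ a₀.left.appTop = 𝟙 _ := by
    rw [← Scheme.Hom.comp_appTop]
    have : a₀.left ≫ F.hom = 𝟙 _ := Over.w a₀
    rw [this]
    rfl
  have : Nonempty (⊤ : F.left.Opens) := ⟨⟨a₀.left (pt0 k), trivial⟩⟩
  constructor
  · exact RingHom.injective _
  · intro r
    obtain ⟨c, hc⟩ : ∃ c : k, (Scheme.ΓSpecIso (CommRingCat.of k)).inv.hom c =
        a₀.left.appTop.hom r :=
      ⟨(Scheme.ΓSpecIso (CommRingCat.of k)).hom.hom (a₀.left.appTop.hom r), by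
        rw [← CommRingCat.comp_apply, Iso.hom_inv_id]; rfl⟩
    refine ⟨c, ?_⟩
    obtain ⟨r', hr'⟩ : ∃ r' : Γ(F.left, ⊤),
        r' = r - ((Scheme.ΓSpecIso (CommRingCat.of k)).inv ≫ F.hom.appTop).hom c := ⟨_, rfl⟩
    have h0 : a₀.left.appTop.hom r' = 0 := by
      rw [hr', map_sub, CommRingCat.comp_apply, ← CommRingCat.comp_apply (F.hom.appTop),
        hsec, CommRingCat.id_apply, hc, sub_self]
    have hclopen : IsClopen (F.left.basicOpen r' : Set F.left) := by
      algebraize [((Scheme.ΓSpecIso (CommRingCat.of k)).inv ≫ F.hom.appTop).hom]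
      obtain ⟨n, b, h⟩ := exists_pow_eq_pow_succ_mul (k := k) r'
        (Algebra.IsIntegral.isIntegral r')
      exact isClopen_basicOpen_of_pow F.left r' b n h
    have hx : a₀.left (pt0 k) ∉ F.left.basicOpen r' := by
      intro hmem
      have h1 : pt0 k ∈ a₀.left ⁻¹ᵁ F.left.basicOpen r' := hmem
      rw [Scheme.preimage_basicOpen_top] at h1
      have h2 : (a₀.left.appTop r' : _) = 0 := h0
      rw [h2, Scheme.basicOpen_zero] at h1
      exact h1
    have hempty : (F.left.basicOpen r' : Set F.left) = ∅ := by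
      rcases isClopen_iff.mp hclopen with h | h
      · exact h
      · exfalso
        apply hx
        change a₀.left (pt0 k) ∈ (F.left.basicOpen r' : Set F.left)
        rw [h]
        trivial
    have hbot : F.left.basicOpen r' = ⊥ := by
      ext y
      change y ∈ (F.left.basicOpen r' : Set F.left) ↔ _
      rw [hempty]
      simp
    have hzero : r' = 0 := (AlgebraicGeometry.basicOpen_eq_bot_iff r').mp hbot
    rw [hr', sub_eq_zero] at hzero
    exact hzero.symm

section translate

variable (X : Over (Spec (CommRingCat.of k))) [GrpObj X]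

/-- left translation by a rational point -/
noncomputable def ltrans (b : 𝟙_ (Over (Spec (CommRingCat.of k))) ⟶ X) : X ⟶ X :=
  lift (toUnit X ≫ b) (𝟙 X) ≫ μ[X]

lemma ltrans_eq (b : 𝟙_ (Over (Spec (CommRingCat.of k))) ⟶ X) :
    ltrans X b = (toUnit X ≫ b) * 𝟙 X := by
  rw [ltrans, Hom.mul_def]

lemma comp_ltrans {T : Over (Spec (CommRingCat.of k))} (t : T ⟶ X)
    (b : 𝟙_ (Over (Spec (CommRingCat.of k))) ⟶ X) :
    t ≫ ltrans X b = (toUnit T ≫ b) * t := by
  rw [ltrans_eq, comp_mul, Category.comp_id, comp_toUnit_assoc]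

lemma ltrans_inv_comp (b : 𝟙_ (Over (Spec (CommRingCat.of k))) ⟶ X) :
    ltrans X b⁻¹ ≫ ltrans X b = 𝟙 X := by
  rw [comp_ltrans, ltrans_eq, ← _root_.mul_assoc, ← comp_mul, _root_.mul_inv_cancel, comp_one,
    _root_.one_mul]

end translate

set_option maxHeartbeats 1600000 in
/-- **Translation of fibre components.** For a morphism `f` from an integral proper group scheme
`X` over a field to a separated scheme and rational points `a`, `b`, translation by `b` maps the
connected component of `a` in its fibre into the connected component of `b a` in its fibre. -/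
theorem ltrans_image_component_subset (X : Over (Spec (CommRingCat.of k))) [GrpObj X]
    [IsProper X.hom] [IsIntegral X.left] {Y : Scheme.{u}} (q : Y ⟶ Spec (CommRingCat.of k))
    [IsSeparated q] (f : X.left ⟶ Y) (hf : f ≫ q = X.hom)
    (a b : 𝟙_ (Over (Spec (CommRingCat.of k))) ⟶ X) :
    (ltrans X b).left '' connectedComponentIn (f ⁻¹' {f (a.left (pt0 k))}) (a.left (pt0 k)) ⊆
      connectedComponentIn (f ⁻¹' {f ((b * a).left (pt0 k))}) ((b * a).left (pt0 k)) := by
  have hXn : IsLocallyNoetherian X.left := LocallyOfFiniteType.isLocallyNoetherian X.hom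
  have hXi : IrreducibleSpace X.left := inferInstance
  have hXr : IsReduced X.left := inferInstance
  -- the rational point `f(a)` is closed
  have hy₀ : (a.left ≫ f) ≫ q = 𝟙 _ := by
    rw [Category.assoc, hf]; exact Over.w a
  have hcl : IsClosedImmersion (a.left ≫ f) := isClosedImmersion_of_comp_eq_id q (a.left ≫ f) hy₀
  have hrange : Set.range (a.left ≫ f) = {f (a.left (pt0 k))} := by
    ext y
    constructor
    · rintro ⟨s, rfl⟩
      have : s = pt0 k := Subsingleton.elim (α := ↥(Spec (CommRingCat.of k))) _ _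
      rw [this]
      rfl
    · rintro rfl
      exact ⟨pt0 k, rfl⟩
  have hptcl : IsClosed ({f (a.left (pt0 k))} : Set Y) := by
    rw [← hrange]
    exact (a.left ≫ f).isClosedEmbedding.isClosed_range
  have hΦcl : IsClosed (f ⁻¹' {f (a.left (pt0 k))}) := hptcl.preimage f.continuous
  have haΦ : a.left (pt0 k) ∈ f ⁻¹' {f (a.left (pt0 k))} := rfl
  obtain ⟨C, hC⟩ : ∃ C : Set X.left,
      C = connectedComponentIn (f ⁻¹' {f (a.left (pt0 k))}) (a.left (pt0 k)) := ⟨_, rfl⟩
  rw [← hC]
  have hCcl : IsClosed C := hC ▸ isClosed_connectedComponentIn hΦcl _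
  have hCΦ : C ⊆ f ⁻¹' {f (a.left (pt0 k))} := hC ▸ connectedComponentIn_subset _ _
  have haC : a.left (pt0 k) ∈ C := hC ▸ mem_connectedComponentIn haΦ
  have hCpre : _root_.IsPreconnected C := hC ▸ isPreconnected_connectedComponentIn
  -- reduced structure on `C`
  obtain ⟨F, i, hi, hFred, hiC⟩ := Groth.Agent.H8.RedImm.exists_reduced_immersion C
    hCcl.isLocallyClosed
  have hicl : IsClosedImmersion i := .of_isPreimmersion i (hiC ▸ hCcl)
  obtain ⟨w, hw⟩ := exists_lift_of_range_subset i a.left (by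
    rintro _ ⟨s, rfl⟩
    have : s = pt0 k := Subsingleton.elim (α := ↥(Spec (CommRingCat.of k))) _ _
    rw [this, hiC]
    exact haC)
  obtain ⟨Fo, ιF, a₀, hFl, hι, ha₀⟩ : ∃ (Fo : Over (Spec (CommRingCat.of k))) (ιF : Fo ⟶ X)
      (a₀ : 𝟙_ (Over (Spec (CommRingCat.of k))) ⟶ Fo) (hFl : Fo.left = F),
      ιF.left = eqToHom hFl ≫ i ∧ a₀ ≫ ιF = a :=
    ⟨Over.mk (i ≫ X.hom), Over.homMk i rfl, Over.homMk w (by
      change w ≫ i ≫ X.hom = 𝟙 _
      rw [reassoc_of% hw]; exact Over.w a), rfl, by simp, by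
      apply Over.OverMorphism.ext
      exact hw⟩
  subst hFl
  rw [eqToHom_refl, Category.id_comp] at hι
  have hFp : IsProper Fo.hom := by
    have h1 : Fo.hom = ιF.left ≫ X.hom := (Over.w ιF).symm
    rw [h1, hι]
    infer_instance
  have hFconn : ConnectedSpace Fo.left := by
    have hne : Nonempty Fo.left := ⟨a₀.left (pt0 k)⟩
    have hpc : PreconnectedSpace Fo.left := by
      constructor
      have h1 : _root_.IsPreconnected (i '' Set.univ) := by
        rw [Set.image_univ, hiC]; exact hCpre
      exact i.isEmbedding.isInducing.isPreconnected_image.mp h1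
    exact { toPreconnectedSpace := hpc, toNonempty := hne }
  have hFiso : IsIso Fo.hom.appTop := isIso_appTop_of_reduced_connected Fo a₀
  have hFc : CompactSpace Fo.left := QuasiCompact.compactSpace_of_compactSpace Fo.hom
  have hFn : IsLocallyNoetherian Fo.left := LocallyOfFiniteType.isLocallyNoetherian Fo.hom
  have hFqs : QuasiSeparatedSpace Fo.left := inferInstance
  -- `f` is constant on `F`
  obtain ⟨Yo, fO, hYl, hfO⟩ : ∃ (Yo : Over (Spec (CommRingCat.of k))) (fO : X ⟶ Yo)
      (hYl : Yo.left = Y), fO.left = f ≫ eqToHom hYl.symm ∧ Yo.hom = eqToHom hYl ≫ q :=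
    ⟨Over.mk q, Over.homMk f hf, rfl, by simp, by simp⟩
  subst hYl
  obtain ⟨hfO1, hfO2⟩ := hfO
  rw [eqToHom_refl, Category.comp_id] at hfO1
  rw [eqToHom_refl, Category.id_comp] at hfO2
  have hYs : IsSeparated Yo.hom := hfO2 ▸ inferInstance
  have hconst : ιF ≫ fO = toUnit Fo ≫ a ≫ fO := by
    obtain ⟨l, hl⟩ := Groth.Agent.H8.RedImm.exists_lift_of_isImmersion_of_isReduced
      (a.left ≫ f) (i ≫ f) (by
        rintro _ ⟨u, rfl⟩
        rw [hrange]
        exact hCΦ (hiC ▸ ⟨u, rfl⟩))
    have hl' : l = Fo.hom := by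
      calc l = (l ≫ a.left ≫ f) ≫ q := by
            rw [Category.assoc, Category.assoc, ← Category.assoc a.left, hy₀]
            exact (Category.comp_id _).symm
        _ = (i ≫ f) ≫ q := by rw [hl]
        _ = Fo.hom := by
            rw [Category.assoc, hf, ← hι]
            exact Over.w ιF
    apply Over.OverMorphism.ext
    rw [Over.comp_left, Over.comp_left, Over.comp_left, toUnit_left, hι, hfO1, ← hl, hl']
  -- the morphism `φ(u, x) = f(x u)`
  obtain ⟨m, hm⟩ : ∃ m : Fo ⊗ X ⟶ X, m = (snd Fo X) * (fst Fo X ≫ ιF) := ⟨_, rfl⟩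
  have hφ : (Fo ◁ η[X]) ≫ m ≫ fO = toUnit _ ≫ lift a₀ η[X] ≫ m ≫ fO := by
    have h1 : (Fo ◁ η[X]) ≫ m = fst Fo _ ≫ ιF := by
      rw [hm, comp_mul, whiskerLeft_snd, whiskerLeft_fst_assoc, one_eq_one, comp_one,
        _root_.one_mul]
    have h2 : lift a₀ η[X] ≫ m = a := by
      rw [hm, comp_mul, lift_snd, lift_fst_assoc, ha₀, one_eq_one, _root_.one_mul]
    rw [reassoc_of% h1, reassoc_of% h2, hconst, comp_toUnit_assoc]
  have hR := rigid_integral Fo X Yo a₀ η[X] (m ≫ fO) hφ
  -- specialise at `b`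
  have hkey : ιF ≫ ltrans X b ≫ fO = toUnit Fo ≫ (b * a) ≫ fO := by
    have h1 : lift (𝟙 Fo) (toUnit Fo ≫ b) ≫ m = ιF ≫ ltrans X b := by
      rw [hm, comp_mul, lift_snd, lift_fst_assoc, Category.id_comp, comp_ltrans]
    have h2 : lift (toUnit X ≫ a₀) (𝟙 X) ≫ m = (𝟙 X) * (toUnit X ≫ a) := by
      rw [hm, comp_mul, lift_snd, lift_fst_assoc, Category.assoc, ha₀]
    have h3 : b ≫ ((𝟙 X) * (toUnit X ≫ a)) = b * a := by
      rw [comp_mul, Category.comp_id, comp_toUnit_assoc, toUnit_unit, Category.id_comp]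
    calc ιF ≫ ltrans X b ≫ fO = lift (𝟙 Fo) (toUnit Fo ≫ b) ≫ m ≫ fO := by
          rw [reassoc_of% h1]
      _ = lift (𝟙 Fo) (toUnit Fo ≫ b) ≫ snd Fo X ≫ lift (toUnit X ≫ a₀) (𝟙 X) ≫ m ≫ fO := by
          rw [← hR]
      _ = toUnit Fo ≫ (b * a) ≫ fO := by
          rw [lift_snd_assoc, reassoc_of% h2, Category.assoc, reassoc_of% h3]
  -- topological conclusion
  have hsub : (ltrans X b).left '' C ⊆ f ⁻¹' {f ((b * a).left (pt0 k))} := by
    rintro _ ⟨c, hc, rfl⟩
    rw [← hiC] at hc
    obtain ⟨u, rfl⟩ := hc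
    have h1 := congrArg (fun t => t.left u) hkey
    simp only [Over.comp_left, Scheme.Hom.comp_apply, hι, hfO1] at h1
    have h2 : (toUnit Fo).left u = pt0 k := Subsingleton.elim (α := ↥(Spec (CommRingCat.of k))) _ _
    rw [h2] at h1
    exact h1
  have hmem : (b * a).left (pt0 k) ∈ (ltrans X b).left '' C := by
    refine ⟨a.left (pt0 k), haC, ?_⟩
    have h1 : a ≫ ltrans X b = b * a := by
      rw [comp_ltrans, toUnit_unit, Category.id_comp]
    rw [← h1]
    rfl
  exact (hCpre.image _ (ltrans X b).left.continuous.continuousOn).subset_connectedComponentIn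
    hmem hsub

set_option maxHeartbeats 800000 in
/-- translation by a rational point `x` carries the connected component of `e` in `f⁻¹(f(e))` onto
the connected component of `x` in `f⁻¹(f(x))` -/
theorem ltrans_image_component_eq (X : Over (Spec (CommRingCat.of k))) [GrpObj X]
    [IsProper X.hom] [IsIntegral X.left] {Y : Scheme.{u}} (q : Y ⟶ Spec (CommRingCat.of k))
    [IsSeparated q] (f : X.left ⟶ Y) (hf : f ≫ q = X.hom)
    (x : 𝟙_ (Over (Spec (CommRingCat.of k))) ⟶ X) :
    (ltrans X x).left '' connectedComponentIn (f ⁻¹' {f (η[X].left (pt0 k))}) (η[X].left (pt0 k)) =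
      connectedComponentIn (f ⁻¹' {f (x.left (pt0 k))}) (x.left (pt0 k)) := by
  apply Set.Subset.antisymm
  · have h := ltrans_image_component_subset X q f hf η[X] x
    have h1 : x * η[X] = x := by rw [one_eq_one, _root_.mul_one]
    rw [h1] at h
    exact h
  · intro c hc
    have h := ltrans_image_component_subset X q f hf x x⁻¹
    have h1 : x⁻¹ * x = η[X] := by rw [_root_.inv_mul_cancel, one_eq_one]
    rw [h1] at h
    refine ⟨(ltrans X x⁻¹).left c, h ⟨c, hc, rfl⟩, ?_⟩
    have h2 := congrArg (fun t => t.left c) (ltrans_inv_comp X x)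
    simpa using h2

end Groth.Agent.H3.AntiAff
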