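import Mathlib
import Groth.Agent.Lib.Helper3.AntiAff.Rigid3

/-!
# `Γ(X × T) = Γ(T)` for an anti-affine `X` with a rational point and arbitrary `T` over a field
-/

set_option autoImplicit false

open CategoryTheory Limits AlgebraicGeometry MonoidalCategory CartesianMonoidalCategory

universe u

namespace Groth.Agent.H3.AntiAff

section cover

variable {S : Scheme.{u}}

/-- morphisms from `X × T` are determined on the `X × U`, `U` affine open in `T` -/
theorem hom_ext_of_affineOpens' {X T Z : Over S} (α β : X ⊗ T ⟶ Z)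
    (h : ∀ U : T.left.affineOpens, (X ◁ opnι' T U.1) ≫ α = (X ◁ opnι' T U.1) ≫ β) : α = β := by
  apply Over.OverMorphism.ext
  have hcov : TopologicalSpace.IsOpenCover
      (fun U : T.left.affineOpens => (snd X T).left ⁻¹ᵁ U.1) := by
    change (⨆ U : T.left.affineOpens, (snd X T).left ⁻¹ᵁ U.1) = ⊤
    rw [← Scheme.Hom.preimage_iSup, iSup_affineOpens_eq_top]
    rfl
  apply ((X ⊗ T).left.openCoverOfIsOpenCover _ hcov).hom_ext
  intro (U : T.left.affineOpens)
  rw [Scheme.openCoverOfIsOpenCover_f]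
  have sq := (Groth.Agent.H3.GrpQuot.isPullback_whiskerLeft X (opnι' T U.1)).map (Over.forget S)
  have sq' : IsPullback (X ◁ opnι' T U.1).left (snd X (opn' T U.1)).left (snd X T).left U.1.ι := sq
  have hr : Set.range (((snd X T).left ⁻¹ᵁ U.1).ι ≫ (snd X T).left) ⊆ Set.range U.1.ι := by
    rw [Scheme.Opens.range_ι]
    rintro _ ⟨x, rfl⟩
    rw [Scheme.Hom.comp_apply]
    exact x.2
  obtain ⟨w, hw⟩ : ∃ w : ((snd X T).left ⁻¹ᵁ U.1 : Scheme.{u}) ⟶ (X ⊗ opn' T U.1).left,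
      w ≫ (X ◁ opnι' T U.1).left = ((snd X T).left ⁻¹ᵁ U.1).ι :=
    ⟨sq'.lift _ (IsOpenImmersion.lift U.1.ι _ hr) (IsOpenImmersion.lift_fac _ _ _).symm,
      sq'.lift_fst _ _ _⟩
  have key : (X ◁ opnι' T U.1).left ≫ α.left = (X ◁ opnι' T U.1).left ≫ β.left := by
    rw [← Over.comp_left, ← Over.comp_left, h U]
  change ((snd X T).left ⁻¹ᵁ U.1).ι ≫ α.left = ((snd X T).left ⁻¹ᵁ U.1).ι ≫ β.left
  rw [← hw, Category.assoc, Category.assoc, key]

end cover

variable {k : Type u} [Field k]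

/-- a morphism from `X × T` to an affine scheme does not depend on the `X`-coordinate, when
`Γ(X) = k` -/
theorem factor_of_affine_target (X T Z : Over (Spec (CommRingCat.of k))) [CompactSpace X.left]
    [QuasiSeparatedSpace X.left] [IsIso X.hom.appTop] [IsAffine Z.left]
    (x₀ : 𝟙_ (Over (Spec (CommRingCat.of k))) ⟶ X) (h : X ⊗ T ⟶ Z) :
    h = snd X T ≫ lift (toUnit T ≫ x₀) (𝟙 T) ≫ h := by
  apply hom_ext_of_affineOpens'
  intro U
  have hU : IsAffine (opn' T U.1).left := U.2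
  have hflat : Flat (opn' T U.1).hom := inferInstance
  have key := factor_of_range_subset X (opn' T U.1) Z x₀ ((X ◁ opnι' T U.1) ≫ h) ⊤
    (isAffineOpen_top Z.left) (fun _ _ => trivial)
  have hsw : lift (toUnit _ ≫ x₀) (𝟙 _) ≫ (X ◁ opnι' T U.1) =
      opnι' T U.1 ≫ lift (toUnit _ ≫ x₀) (𝟙 _) := by
    apply CartesianMonoidalCategory.hom_ext <;> simp
  rw [key, reassoc_of% hsw, whiskerLeft_snd_assoc]

/-- `Γ(X × T) = Γ(T)` when `Γ(X) = k` -/
theorem isIso_snd_appTop' (X T : Over (Spec (CommRingCat.of k))) [CompactSpace X.left]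
    [QuasiSeparatedSpace X.left] [IsIso X.hom.appTop]
    (x₀ : 𝟙_ (Over (Spec (CommRingCat.of k))) ⟶ X) : IsIso (snd X T).left.appTop := by
  obtain ⟨ζ, hζ⟩ : ∃ ζ : Spec Γ((X ⊗ T).left, ⊤) ⟶ Spec (CommRingCat.of k),
      (X ⊗ T).left.toSpecΓ ≫ ζ = (X ⊗ T).hom := by
    refine ⟨Spec.map ((Scheme.ΓSpecIso (CommRingCat.of k)).inv ≫ (X ⊗ T).hom.appTop), ?_⟩
    rw [Spec.map_comp, ← Scheme.toSpecΓ_naturality_assoc, toSpecΓ_SpecMap_ΓSpecIso_inv,
      Category.comp_id]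
  let Z : Over (Spec (CommRingCat.of k)) := Over.mk ζ
  have : IsAffine Z.left := inferInstanceAs (IsAffine (Spec Γ((X ⊗ T).left, ⊤)))
  let h : X ⊗ T ⟶ Z := Over.homMk (X ⊗ T).left.toSpecΓ hζ
  obtain ⟨σ, hσ⟩ : ∃ σ : T ⟶ X ⊗ T, σ = lift (toUnit T ≫ x₀) (𝟙 T) := ⟨_, rfl⟩
  have key := factor_of_affine_target X T Z x₀ h
  rw [← hσ] at key
  have h1 : σ ≫ snd X T = 𝟙 T := by rw [hσ]; simp
  have k1 := congrArg (fun m => m.left.appTop) key
  have k2 : (X ⊗ T).left.toSpecΓ.appTop =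
      (X ⊗ T).left.toSpecΓ.appTop ≫ (snd X T ≫ σ).left.appTop := by
    have : h.left = (X ⊗ T).left.toSpecΓ := rfl
    simpa only [Over.comp_left, Scheme.Hom.comp_appTop, this, Category.assoc] using k1
  have k3 : (snd X T ≫ σ).left.appTop = 𝟙 _ := by
    have hiso : IsIso (X ⊗ T).left.toSpecΓ.appTop := by
      rw [Scheme.toSpecΓ_appTop]; infer_instance
    rw [← cancel_epi (X ⊗ T).left.toSpecΓ.appTop, ← k2, Category.comp_id]
  have k4 : σ.left.appTop ≫ (snd X T).left.appTop = 𝟙 _ := by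
    rw [← Scheme.Hom.comp_appTop, ← Over.comp_left]
    exact k3
  have k5 : (snd X T).left.appTop ≫ σ.left.appTop = 𝟙 _ := by
    rw [← Scheme.Hom.comp_appTop, ← Over.comp_left, h1]
    rfl
  exact ⟨σ.left.appTop, k5, k4⟩

end Groth.Agent.H3.AntiAff
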