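import Mathlib
import Groth.Agent.Lib.Helper3.AntiAff.Kunneth

/-!
# Anti-affineness of a product
-/

set_option autoImplicit false

open CategoryTheory Limits AlgebraicGeometry MonoidalCategory CartesianMonoidalCategory

universe u

namespace Groth.Agent.H3.AntiAff

lemma isIso_of_comp_of_retraction {C : Type*} [Category C] {A B D : C} (a : A ⟶ B) (b : B ⟶ D)
    (r : D ⟶ B) (hr : b ≫ r = 𝟙 B) [IsIso (a ≫ b)] : IsIso a := by
  have hmono : Mono b := by
    have : Mono (b ≫ r) := by rw [hr]; infer_instance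
    exact mono_of_mono b r
  refine ⟨b ≫ inv (a ≫ b), ?_, ?_⟩
  · rw [← Category.assoc, IsIso.hom_inv_id]
  · rw [← cancel_mono b, Category.assoc, Category.assoc, IsIso.inv_hom_id, Category.comp_id,
      Category.id_comp]

variable {k : Type u} [Field k]

/-- a product of two `k`-schemes with rational points, both quasi-compact quasi-separated, is
anti-affine iff both factors are -/
theorem isIso_appTop_prod_iff (X₁ X₂ : Over (Spec (CommRingCat.of k))) [CompactSpace X₁.left]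
    [QuasiSeparatedSpace X₁.left] (x₁ : 𝟙_ (Over (Spec (CommRingCat.of k))) ⟶ X₁)
    (x₂ : 𝟙_ (Over (Spec (CommRingCat.of k))) ⟶ X₂) :
    IsIso (X₁ ⊗ X₂).hom.appTop ↔ IsIso X₁.hom.appTop ∧ IsIso X₂.hom.appTop := by
  have e₁ : (X₁ ⊗ X₂).hom.appTop = X₁.hom.appTop ≫ (fst X₁ X₂).left.appTop := by
    rw [← Scheme.Hom.comp_appTop, Over.w]
  have e₂ : (X₁ ⊗ X₂).hom.appTop = X₂.hom.appTop ≫ (snd X₁ X₂).left.appTop := by
    rw [← Scheme.Hom.comp_appTop, Over.w]
  constructor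
  · intro h
    constructor
    · have h1 : lift (𝟙 X₁) (toUnit X₁ ≫ x₂) ≫ fst X₁ X₂ = 𝟙 X₁ := by simp
      have h2 : (fst X₁ X₂).left.appTop ≫ (lift (𝟙 X₁) (toUnit X₁ ≫ x₂)).left.appTop = 𝟙 _ := by
        rw [← Scheme.Hom.comp_appTop, ← Over.comp_left, h1]; rfl
      have : IsIso (X₁.hom.appTop ≫ (fst X₁ X₂).left.appTop) := by rw [← e₁]; exact h
      exact isIso_of_comp_of_retraction _ _ _ h2
    · have h1 : lift (toUnit X₂ ≫ x₁) (𝟙 X₂) ≫ snd X₁ X₂ = 𝟙 X₂ := by simp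
      have h2 : (snd X₁ X₂).left.appTop ≫ (lift (toUnit X₂ ≫ x₁) (𝟙 X₂)).left.appTop = 𝟙 _ := by
        rw [← Scheme.Hom.comp_appTop, ← Over.comp_left, h1]; rfl
      have : IsIso (X₂.hom.appTop ≫ (snd X₁ X₂).left.appTop) := by rw [← e₂]; exact h
      exact isIso_of_comp_of_retraction _ _ _ h2
  · rintro ⟨h1, h2⟩
    have := isIso_snd_appTop' X₁ X₂ x₁
    rw [e₂]
    infer_instance

end Groth.Agent.H3.AntiAff
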