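import Mathlib
import Groth.Agent.Lib.Helper3.AntiAff.AutDecomp
import Groth.Agent.Lib.Helper3.AntiAff.ActPt
import Groth.Agent.Lib.Helper9.Misc.GZA2

/-!
# Actions of connected groups on products of complete varieties are product actions
-/

set_option autoImplicit false

open CategoryTheory Limits AlgebraicGeometry MonoidalCategory CartesianMonoidalCategory MonObj

universe u

namespace Groth.Agent.H3.AntiAff

variable {k : Type u} [Field k]

set_option maxHeartbeats 800000 in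
/-- rigidity with three factors: a morphism from `G' × (X' × Y')`, `Y'` anti-affine, `G' × X'`
connected, which is constant on `g₀ × x₀ × Y'` does not depend on the `Y'`-coordinate -/
theorem rigid_three [IsAlgClosed k] (G' X' Y' Z : Over (Spec (CommRingCat.of k)))
    [LocallyOfFiniteType Y'.hom] [QuasiCompact Y'.hom] [IsIso Y'.hom.appTop]
    [LocallyOfFiniteType (G' ⊗ X').hom] [PreconnectedSpace (G' ⊗ X').left] [IsSeparated Z.hom]
    (m : G' ⊗ (X' ⊗ Y') ⟶ Z) (g₀ : 𝟙_ (Over (Spec (CommRingCat.of k))) ⟶ G')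
    (x₀ : 𝟙_ (Over (Spec (CommRingCat.of k))) ⟶ X') (y₀ : 𝟙_ (Over (Spec (CommRingCat.of k))) ⟶ Y')
    (z₀ : 𝟙_ (Over (Spec (CommRingCat.of k))) ⟶ Z)
    (hm : lift (toUnit Y' ≫ g₀) (lift (toUnit Y' ≫ x₀) (𝟙 Y')) ≫ m = toUnit Y' ≫ z₀) :
    m = (G' ◁ fst X' Y') ≫ (G' ◁ lift (𝟙 X') (toUnit X' ≫ y₀)) ≫ m := by
  obtain ⟨r, hr⟩ : ∃ r : Y' ⊗ (G' ⊗ X') ⟶ G' ⊗ (X' ⊗ Y'),
      r = lift (snd Y' (G' ⊗ X') ≫ fst G' X')
        (lift (snd Y' (G' ⊗ X') ≫ snd G' X') (fst Y' (G' ⊗ X'))) := ⟨_, rfl⟩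
  obtain ⟨r', hr'⟩ : ∃ r' : G' ⊗ (X' ⊗ Y') ⟶ Y' ⊗ (G' ⊗ X'),
      r' = lift (snd G' (X' ⊗ Y') ≫ snd X' Y')
        (lift (fst G' (X' ⊗ Y')) (snd G' (X' ⊗ Y') ≫ fst X' Y')) := ⟨_, rfl⟩
  have hrr : r' ≫ r = 𝟙 _ := by
    rw [hr, hr']
    apply CartesianMonoidalCategory.hom_ext
    · simp
    · apply CartesianMonoidalCategory.hom_ext <;> simp
  have hP : (Y' ◁ lift g₀ x₀) ≫ r ≫ m = toUnit _ ≫ z₀ := by
    have h1 : (Y' ◁ lift g₀ x₀) ≫ r =
        fst Y' _ ≫ lift (toUnit Y' ≫ g₀) (lift (toUnit Y' ≫ x₀) (𝟙 Y')) := by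
      rw [hr]
      apply CartesianMonoidalCategory.hom_ext
      · simp only [Category.assoc, lift_fst, whiskerLeft_snd_assoc, comp_toUnit_assoc]
        congr 1
        exact toUnit_unique _ _
      · apply CartesianMonoidalCategory.hom_ext
        · simp only [Category.assoc, lift_fst, lift_snd, whiskerLeft_snd_assoc, comp_toUnit_assoc]
          congr 1
          exact toUnit_unique _ _
        · simp
    rw [reassoc_of% h1, hm, comp_toUnit_assoc]
  obtain ⟨g, hg, -⟩ := rigid_connected_existsUnique Y' (G' ⊗ X') Z (r ≫ m) (lift g₀ x₀) z₀ hP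
  have h2 : r' ≫ snd Y' (G' ⊗ X') = G' ◁ fst X' Y' := by
    rw [hr']
    apply CartesianMonoidalCategory.hom_ext <;> simp
  have h3 : lift (toUnit (G' ⊗ X') ≫ y₀) (𝟙 (G' ⊗ X')) ≫ r =
      G' ◁ lift (𝟙 X') (toUnit X' ≫ y₀) := by
    rw [hr]
    apply CartesianMonoidalCategory.hom_ext
    · simp
    · apply CartesianMonoidalCategory.hom_ext <;> simp
  have h4 : g = lift (toUnit (G' ⊗ X') ≫ y₀) (𝟙 (G' ⊗ X')) ≫ r ≫ m := by
    rw [hg, lift_snd_assoc, Category.id_comp]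
  calc m = r' ≫ r ≫ m := by rw [reassoc_of% hrr]
    _ = r' ≫ snd Y' (G' ⊗ X') ≫ g := by rw [← hg]
    _ = (G' ◁ fst X' Y') ≫ (G' ◁ lift (𝟙 X') (toUnit X' ≫ y₀)) ≫ m := by
      rw [reassoc_of% h2, h4, reassoc_of% h3]

set_option maxHeartbeats 1600000 in
/-- an action of a connected group on a product of complete varieties is a product action -/
theorem prod_action_decomp [IsAlgClosed k] (G X Y : Over (Spec (CommRingCat.of k))) [GrpObj G]
    [LocallyOfFiniteType G.hom] [QuasiCompact G.hom] [ConnectedSpace G.left]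
    [IsProper X.hom] [IsIntegral X.left] [IsProper Y.hom] [IsIntegral Y.left]
    (a : AlgGrp.Action G (X ⊗ Y)) :
    ∃ (b : AlgGrp.Action G X) (c : AlgGrp.Action G Y),
      a.act = lift ((G ◁ fst X Y) ≫ b.act) ((G ◁ snd X Y) ≫ c.act) ∧
      ∀ (b' : AlgGrp.Action G X) (c' : AlgGrp.Action G Y),
        a.act = lift ((G ◁ fst X Y) ≫ b'.act) ((G ◁ snd X Y) ≫ c'.act) → b' = b ∧ c' = c := by
  have hX : IsIso X.hom.appTop := isIso_appTop_of_universallyClosed X
  have hY : IsIso Y.hom.appTop := isIso_appTop_of_universallyClosed Y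
  have hGi : IrreducibleSpace G.left := Groth.Agent.H9.GZB.S0348_main G
  have hGg : GeometricallyIrreducible G.hom :=
    Groth.Agent.H9.GZA.geometricallyIrreducible_of_isAlgClosed k G.hom
  have hGo : UniversallyOpen G.hom := inferInstance
  have hGX : IrreducibleSpace ↥(pullback G.hom X.hom) := inferInstance
  have hGY : IrreducibleSpace ↥(pullback G.hom Y.hom) := inferInstance
  have hGX' : PreconnectedSpace (G ⊗ X).left := inferInstanceAs (PreconnectedSpace ↥(pullback G.hom X.hom))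
  have hGY' : PreconnectedSpace (G ⊗ Y).left := inferInstanceAs (PreconnectedSpace ↥(pullback G.hom Y.hom))
  have hGXl : LocallyOfFiniteType (G ⊗ X).hom := by
    rw [Over.tensorObj_hom]; infer_instance
  have hGYl : LocallyOfFiniteType (G ⊗ Y).hom := by
    rw [Over.tensorObj_hom]; infer_instance
  obtain ⟨x₀, -⟩ := Groth.Agent.H9.ORB3.exists_point_of_closed k X Set.univ isClosed_univ
    Set.univ_nonempty
  obtain ⟨y₀, -⟩ := Groth.Agent.H9.ORB3.exists_point_of_closed k Y Set.univ isClosed_univ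
    Set.univ_nonempty
  -- the two rigidity statements
  have hB := rigid_three G X Y X (a.act ≫ fst X Y) η[G] x₀ y₀ x₀ (by
    rw [← Category.assoc, Groth.Agent.H3.ActPt.one_pt, lift_fst])
  have hC := rigid_three G Y X Y ((G ◁ (β_ Y X).hom) ≫ a.act ≫ snd X Y) η[G] y₀ x₀ y₀ (by
    have h1 : lift (toUnit X ≫ η[G]) (lift (toUnit X ≫ y₀) (𝟙 X)) ≫ (G ◁ (β_ Y X).hom) =
        lift (toUnit X ≫ η[G]) (lift (𝟙 X) (toUnit X ≫ y₀)) := by
      apply CartesianMonoidalCategory.hom_ext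
      · simp
      · apply CartesianMonoidalCategory.hom_ext <;> simp
    rw [reassoc_of% h1, ← Category.assoc, Groth.Agent.H3.ActPt.one_pt, lift_snd])
  obtain ⟨bact, hbact⟩ : ∃ bact : G ⊗ X ⟶ X,
      bact = (G ◁ lift (𝟙 X) (toUnit X ≫ y₀)) ≫ a.act ≫ fst X Y := ⟨_, rfl⟩
  obtain ⟨cact, hcact⟩ : ∃ cact : G ⊗ Y ⟶ Y,
      cact = (G ◁ lift (toUnit Y ≫ x₀) (𝟙 Y)) ≫ a.act ≫ snd X Y := ⟨_, rfl⟩
  have hB' : a.act ≫ fst X Y = (G ◁ fst X Y) ≫ bact := by rw [hbact]; exact hB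
  have hC' : a.act ≫ snd X Y = (G ◁ snd X Y) ≫ cact := by
    have h1 : a.act ≫ snd X Y = (G ◁ (β_ X Y).hom) ≫ (G ◁ (β_ Y X).hom) ≫ a.act ≫ snd X Y := by
      rw [← whiskerLeft_comp_assoc]
      simp
    have h2 : (G ◁ (β_ X Y).hom) ≫ (G ◁ fst Y X) = G ◁ snd X Y := by
      rw [← whiskerLeft_comp]
      congr 1
      simp
    have h3 : (G ◁ lift (𝟙 Y) (toUnit Y ≫ x₀)) ≫ (G ◁ (β_ Y X).hom) =
        G ◁ lift (toUnit Y ≫ x₀) (𝟙 Y) := by
      rw [← whiskerLeft_comp]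
      congr 1
      apply CartesianMonoidalCategory.hom_ext <;> simp
    rw [h1, hC, reassoc_of% h2, reassoc_of% h3, hcact]
  -- point forms
  have hbpt : ∀ {T : Over (Spec (CommRingCat.of k))} (g : T ⟶ G) (x : T ⟶ X) (y : T ⟶ Y),
      lift g (lift x y) ≫ a.act ≫ fst X Y = lift g x ≫ bact := by
    intro T g x y
    rw [hB', ← Category.assoc]
    congr 1
    apply CartesianMonoidalCategory.hom_ext <;> simp
  have hcpt : ∀ {T : Over (Spec (CommRingCat.of k))} (g : T ⟶ G) (x : T ⟶ X) (y : T ⟶ Y),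
      lift g (lift x y) ≫ a.act ≫ snd X Y = lift g y ≫ cact := by
    intro T g x y
    rw [hC', ← Category.assoc]
    congr 1
    apply CartesianMonoidalCategory.hom_ext <;> simp
  have hsplit : ∀ {T : Over (Spec (CommRingCat.of k))} (w : T ⟶ X ⊗ Y),
      w = lift (w ≫ fst X Y) (w ≫ snd X Y) := by
    intro T w
    apply CartesianMonoidalCategory.hom_ext <;> simp
  let b : AlgGrp.Action G X := Groth.Agent.H3.ActPt.mkOfPt bact
    (by
      intro T x
      rw [← hbpt _ x (toUnit T ≫ y₀), ← Category.assoc, Groth.Agent.H3.ActPt.one_pt, lift_fst])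
    (by
      intro T g h x
      rw [← hbpt _ x (toUnit T ≫ y₀), ← Category.assoc, Groth.Agent.H3.ActPt.mul_pt,
        hsplit (lift h (lift x (toUnit T ≫ y₀)) ≫ a.act), Category.assoc, hbpt,
        Category.assoc, hbpt])
  let c : AlgGrp.Action G Y := Groth.Agent.H3.ActPt.mkOfPt cact
    (by
      intro T y
      rw [← hcpt _ (toUnit T ≫ x₀) y, ← Category.assoc, Groth.Agent.H3.ActPt.one_pt, lift_snd])
    (by
      intro T g h y
      rw [← hcpt _ (toUnit T ≫ x₀) y, ← Category.assoc, Groth.Agent.H3.ActPt.mul_pt,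
        hsplit (lift h (lift (toUnit T ≫ x₀) y) ≫ a.act), Category.assoc, hcpt,
        Category.assoc, hcpt])
  refine ⟨b, c, ?_, ?_⟩
  · apply CartesianMonoidalCategory.hom_ext
    · rw [lift_fst]; exact hB'
    · rw [lift_snd]; exact hC'
  · intro b' c' h
    have e1 : (G ◁ fst X Y) ≫ b'.act = (G ◁ fst X Y) ≫ bact := by
      rw [← hB', h, lift_fst]
    have e2 : (G ◁ snd X Y) ≫ c'.act = (G ◁ snd X Y) ≫ cact := by
      rw [← hC', h, lift_snd]
    have s1 : (G ◁ lift (𝟙 X) (toUnit X ≫ y₀)) ≫ (G ◁ fst X Y) = 𝟙 _ := by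
      rw [← whiskerLeft_comp, lift_fst, whiskerLeft_id]
    have s2 : (G ◁ lift (toUnit Y ≫ x₀) (𝟙 Y)) ≫ (G ◁ snd X Y) = 𝟙 _ := by
      rw [← whiskerLeft_comp, lift_snd, whiskerLeft_id]
    constructor
    · apply Groth.Agent.H3.ActPt.action_ext
      have := congrArg (fun t => (G ◁ lift (𝟙 X) (toUnit X ≫ y₀)) ≫ t) e1
      simp only [reassoc_of% s1] at this
      exact this
    · apply Groth.Agent.H3.ActPt.action_ext
      have := congrArg (fun t => (G ◁ lift (toUnit Y ≫ x₀) (𝟙 Y)) ≫ t) e2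
      simp only [reassoc_of% s2] at this
      exact this

end Groth.Agent.H3.AntiAff
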